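import Groth.Agent.Et18.DC.Main

/-!
# Closure properties of derived complete sheaves
-/

universe w u

open CategoryTheory CategoryTheory.Limits AlgebraicGeometry Opposite

set_option backward.isDefEq.respectTransparency.types false
set_option backward.isDefEq.respectTransparency false
set_option synthInstance.maxHeartbeats 400000
set_option maxHeartbeats 1000000

namespace Groth.Agent.Et18.DC

open ModEps

section Algebra

variable {R : Type w} [CommRing R] {f : R} {A B C : Type*} [AddCommGroup A] [Module R A] [AddCommGroup B]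
  [Module R B] [AddCommGroup C] [Module R C]

lemma tmap_sub {Λ : Type (u + 1)} [CommRing Λ] {f : Λ} {M : Type*} [AddCommGroup M] [Module Λ M] (x y : ℕ → M) :
    tmap f M (x - y) = tmap f M x - tmap f M y := by
  funext k
  simp only [tmap, Pi.sub_apply, smul_sub]
  abel

lemma tmap_zero {Λ : Type (u + 1)} [CommRing Λ] {f : Λ} {M : Type*} [AddCommGroup M] [Module Λ M] :
    tmap f M (0 : ℕ → M) = 0 := by
  funext k
  simp [tmap]

end Algebra

section Exact

variable {Λ : Type (u + 1)} [CommRing Λ] {f : Λ} {A B C : Type*} [AddCommGroup A] [Module Λ A] [AddCommGroup B]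
  [Module Λ B] [AddCommGroup C] [Module Λ C] (i : A →ₗ[Λ] B) (p : B →ₗ[Λ] C)
  (hi : Function.Injective i) (hp : Function.Surjective p) (hex : Function.Exact i p)

include hi in
lemma injective_tmap_of_injective (h : TB f B) : Function.Injective (tmap f A) := fun x y hxy =>
  funext fun k => hi (congrFun (h.1 (funext fun j => by
    rw [← tmap_comp i x j, ← tmap_comp i y j, hxy] : tmap f B (fun j => i (x j)) = tmap f B fun j => i (y j))) k)

include hp in
lemma surjective_tmap_of_surjective (h : TB f B) : Function.Surjective (tmap f C) := fun y => by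
  choose y' hy' using fun k => hp (y k)
  obtain ⟨x, hx⟩ := h.2 y'
  exact ⟨fun k => p (x k), funext fun k => by rw [← tmap_comp p x k, hx, hy']⟩

include hi hp hex in
lemma tb_middle (hA : TB f A) (hC : TB f C) : TB f B := by
  refine ⟨fun x y hxy => ?_, fun y => ?_⟩
  · have h0 : tmap f B (x - y) = 0 := by rw [tmap_sub, hxy, sub_self]
    have h1 : (fun k => p ((x - y) k)) = 0 := hC.1 (funext fun k => by
      rw [← tmap_comp p (x - y) k, h0, tmap_zero, Pi.zero_apply, map_zero, Pi.zero_apply])
    choose a ha using fun k => (hex ((x - y) k)).mp (congrFun h1 k)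
    have h2 : a = 0 := hA.1 (funext fun k => hi (by
      rw [tmap_comp i a k, tmap_zero, Pi.zero_apply, map_zero, show (fun j => i (a j)) = x - y from funext ha, h0]
      rfl))
    exact funext fun k => sub_eq_zero.mp (by rw [← Pi.sub_apply, ← ha, h2, Pi.zero_apply, map_zero])
  · obtain ⟨c, hc⟩ := hC.2 fun k => p (y k)
    choose b hb using fun k => hp (c k)
    choose a ha using fun k => (hex (y k - tmap f B b k)).mp (by
      rw [map_sub, tmap_comp p b k, show (fun j => p (b j)) = c from funext hb, hc, sub_self])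
    obtain ⟨x, hx⟩ := hA.2 a
    refine ⟨b + fun k => i (x k), funext fun k => ?_⟩
    have : tmap f B (fun j => i (x j)) k = y k - tmap f B b k := by rw [← tmap_comp i x k, hx, ha]
    simp only [tmap, Pi.add_apply, smul_add] at this ⊢
    rw [add_sub_add_comm, this]
    abel

include hi hp hex in
lemma tb_right (hA : TB f A) (hB : TB f B) : TB f C := by
  refine ⟨fun x y hxy => ?_, surjective_tmap_of_surjective p hp hB⟩
  choose z hz using fun k => hp ((x - y) k)
  choose a ha using fun k => (hex (tmap f B z k)).mp (by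
    rw [tmap_comp p z k, show (fun j => p (z j)) = x - y from funext hz, tmap_sub, hxy, sub_self, Pi.zero_apply])
  obtain ⟨w, hw⟩ := hA.2 a
  have h0 : z = fun k => i (w k) := hB.1 (funext fun k => by rw [← tmap_comp i w k, hw, ha])
  exact funext fun k => sub_eq_zero.mp (by
    rw [← Pi.sub_apply, ← hz, h0]
    exact hex.apply_apply_eq_zero (w k))

include hi hp hex in
lemma tb_left (hB : TB f B) (hC : TB f C) : TB f A := by
  refine ⟨injective_tmap_of_injective i hi hB, fun a => ?_⟩
  obtain ⟨x, hx⟩ := hB.2 fun k => i (a k)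
  have h1 : (fun k => p (x k)) = 0 := hC.1 (funext fun k => by
    rw [← tmap_comp p x k, hx, tmap_zero, Pi.zero_apply]
    exact hex.apply_apply_eq_zero (a k))
  choose w hw using fun k => (hex (x k)).mp (congrFun h1 k)
  exact ⟨w, funext fun k => hi (by rw [tmap_comp i w k, show (fun j => i (w j)) = x from funext hw, hx])⟩

lemma tb_of_pow_smul (m : ℕ) (h : ∀ x : A, f ^ m • x = 0) : TB f A := by
  constructor
  · intro x y hxy
    have h0 : tmap f A (x - y) = 0 := by rw [tmap_sub, hxy, sub_self]
    have h1 : ∀ d k, (x - y) k = f ^ d • (x - y) (k + d) := fun d => by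
      induction d with
      | zero => simp
      | succ d ih =>
        intro k
        have := congrFun h0 (k + d)
        simp only [tmap, Pi.zero_apply, sub_eq_zero] at this
        rw [ih k, this, smul_smul, ← pow_succ, ← add_assoc]
    exact funext fun k => sub_eq_zero.mp (by rw [← Pi.sub_apply, h1 m k, h])
  · intro y
    refine ⟨fun k => ∑ j ∈ Finset.range m, f ^ j • y (k + j), funext fun k => ?_⟩
    simp only [tmap, Finset.smul_sum, smul_smul, ← pow_succ', show ∀ j, k + 1 + j = k + (j + 1) from fun j => by omega]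
    rw [← Finset.sum_sub_distrib, Finset.sum_range_sub' fun j => f ^ j • y (k + j), h, sub_zero, pow_zero, one_smul,
      Nat.add_zero]

lemma eq_zero_of_surjective_smul (hA : TB f A) (hs : ∀ x : A, ∃ y, f • y = x) (x : A) : x = 0 := by
  choose g hg using hs
  let s : ℕ → A := fun k => Nat.rec x (fun _ p => g p) k
  have : s = 0 := hA.1 (funext fun k => by
    show s k - f • s (k + 1) = tmap f A 0 k
    rw [show s (k + 1) = g (s k) from rfl, hg, sub_self, tmap_zero, Pi.zero_apply])
  exact congrFun this 0

/-- A module complete for each of finitely many elements and generated by their multiples vanishes. -/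
theorem eq_zero_of_sum {r : ℕ} : ∀ (a : Fin r → Λ) {M : Type (u + 1)} [AddCommGroup M] [Module Λ M],
    (∀ k, TB (a k) M) → (∀ x : M, ∃ y : Fin r → M, ∑ k, a k • y k = x) → ∀ x : M, x = 0 := by
  induction r with
  | zero =>
    intro a M _ _ _ h x
    obtain ⟨y, rfl⟩ := h x
    simp
  | succ r ih =>
    intro a M _ _ hT h
    let N : Submodule Λ M := LinearMap.range (a 0 • LinearMap.id)
    have hQ : ∀ k : Fin r, TB (a k.succ) (M ⧸ N) := fun k => by
      let K : Submodule Λ M := LinearMap.ker (a 0 • LinearMap.id)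
      have hK : TB (a k.succ) K := by
        refine ⟨injective_tmap_of_injective K.subtype Subtype.val_injective (hT k.succ), fun y => ?_⟩
        obtain ⟨x, hx⟩ := (hT k.succ).2 fun j => (y j : M)
        have hmem : (fun j => (a 0 • LinearMap.id : M →ₗ[Λ] M) (x j)) = 0 := (hT k.succ).1 (funext fun j => by
          rw [← tmap_comp, hx, tmap_zero]
          exact (y j).2)
        exact ⟨fun j => ⟨x j, congrFun hmem j⟩, funext fun j => Subtype.ext
          ((tmap_comp (f := a k.succ) K.subtype (fun j => (⟨x j, congrFun hmem j⟩ : K)) j).trans (congrFun hx j))⟩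
      have hN : TB (a k.succ) N := by
        let q : M →ₗ[Λ] N := (a 0 • LinearMap.id : M →ₗ[Λ] M).rangeRestrict
        refine tb_right K.subtype q Subtype.val_injective (LinearMap.surjective_rangeRestrict _) ?_ hK (hT k.succ)
        intro x
        simp only [q, Set.mem_range, Submodule.coe_subtype, Subtype.exists, exists_prop, exists_eq_right]
        exact ⟨fun hx => congrArg Subtype.val hx, fun hx => Subtype.ext hx⟩
      exact tb_right N.subtype N.mkQ Subtype.val_injective N.mkQ_surjective
        (LinearMap.exact_subtype_mkQ N) hN (hT k.succ)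
    have hz := ih (fun k => a k.succ) hQ fun x => by
      obtain ⟨x, rfl⟩ := N.mkQ_surjective x
      obtain ⟨y, hy⟩ := h x
      refine ⟨fun k => N.mkQ (y k.succ), ?_⟩
      rw [← hy, Fin.sum_univ_succ, map_add, map_sum]
      have : N.mkQ (a 0 • y 0) = 0 := (Submodule.Quotient.mk_eq_zero _).mpr ⟨y 0, rfl⟩
      rw [this, zero_add]
      simp
    exact eq_zero_of_surjective_smul (hT 0) fun x => (Submodule.Quotient.mk_eq_zero N).mp (hz (N.mkQ x))

end Exact

variable {Λ : Type (u + 1)} [CommRing Λ] {X : Scheme.{u}} {I : Ideal Λ}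

/-- Kernels and cokernels. -/
theorem isDCSheaf_kernel_cokernel {F G : EtModW.ModP Λ X} (φ : F ⟶ G) (hF : ProEtDC.IsDCSheaf Λ I F)
    (hG : ProEtDC.IsDCSheaf Λ I G) : ProEtDC.IsDCSheaf Λ I (kernel φ) ∧ ProEtDC.IsDCSheaf Λ I (cokernel φ) := by
  rw [isDCSheaf_iff] at hF hG
  have aux : ∀ f ∈ I, ∀ U : X.ProEt, IsAWC U →
      TB f ((secP (Λ := Λ) U).obj (kernel φ)) ∧ TB f ((secP (Λ := Λ) U).obj (cokernel φ)) := by
    intro f hf U hU
    let φU := ((secP U).map φ).hom
    let i := ((secP U).map (kernel.ι φ)).hom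
    let p := ((secP U).map (cokernel.π φ)).hom
    have hi : Function.Injective i := (ModuleCat.mono_iff_injective _).mp inferInstance
    have hp : Function.Surjective p := surjective_of_epi _ hU
    have hR : TB f (LinearMap.range φU) :=
      ⟨injective_tmap_of_injective (LinearMap.range φU).subtype Subtype.val_injective (hG f hf U hU),
        surjective_tmap_of_surjective φU.rangeRestrict (LinearMap.surjective_rangeRestrict _) (hF f hf U hU)⟩
    refine ⟨tb_left i φU.rangeRestrict hi (LinearMap.surjective_rangeRestrict _) ?_ (hF f hf U hU) hR,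
      tb_right (LinearMap.range φU).subtype p Subtype.val_injective hp ?_ hR (hG f hf U hU)⟩
    · intro x
      constructor
      · intro hx
        exact exists_preimage_awc (ShortComplex.exact_kernel φ) hU x (congrArg Subtype.val hx)
      · rintro ⟨z, rfl⟩
        exact Subtype.ext ((congrArg (fun t => ((secP U).map t).hom z) (kernel.condition φ)).trans rfl)
    · intro x
      constructor
      · intro hx
        obtain ⟨z, hz⟩ := exists_preimage_awc (ShortComplex.exact_cokernel φ) hU x hx
        exact ⟨⟨x, z, hz⟩, rfl⟩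
      · rintro ⟨⟨_, z, rfl⟩, rfl⟩
        exact (congrArg (fun t => ((secP U).map t).hom z) (cokernel.condition φ)).trans rfl
  exact ⟨(isDCSheaf_iff I _).mpr fun f hf U hU => (aux f hf U hU).1,
    (isDCSheaf_iff I _).mpr fun f hf U hU => (aux f hf U hU).2⟩

/-- Extensions. -/
theorem isDCSheaf_extension {S : ShortComplex (EtModW.ModP Λ X)} (hS : S.ShortExact)
    (h₁ : ProEtDC.IsDCSheaf Λ I S.X₁) (h₃ : ProEtDC.IsDCSheaf Λ I S.X₃) : ProEtDC.IsDCSheaf Λ I S.X₂ := by
  rw [isDCSheaf_iff] at h₁ h₃ ⊢
  intro f hf U hU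
  haveI := hS.mono_f
  haveI := hS.epi_g
  refine tb_middle ((secP U).map S.f).hom ((secP U).map S.g).hom ((ModuleCat.mono_iff_injective _).mp inferInstance)
    (surjective_of_epi S.g hU) (fun x => ⟨exists_preimage_awc hS.exact hU x, ?_⟩) (h₁ f hf U hU) (h₃ f hf U hU)
  rintro ⟨z, rfl⟩
  exact (congrArg (fun t => ((secP U).map t).hom z) S.zero).trans rfl

/-- Limits of towers. -/
theorem isDCSheaf_limit (D : ℕᵒᵖ ⥤ EtModW.ModP Λ X) (hD : ∀ n : ℕ, ProEtDC.IsDCSheaf Λ I (D.obj (op n))) :
    ProEtDC.IsDCSheaf Λ I (limit D) := by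
  rw [isDCSheaf_iff]
  intro f hf U hU
  have hT := fun n => (isDCSheaf_iff I _).mp (hD n) f hf U hU
  let π := fun n => ((secP U).map (limit.π D (op n))).hom
  have hext : ∀ a b, (∀ n, π n a = π n b) → a = b := fun a b h =>
    Concrete.isLimit_ext _ (isLimitOfPreserves (secP U) (limit.isLimit D)) a b fun ⟨n⟩ => h n
  refine ⟨fun x y hxy => funext fun k => hext _ _ fun n => ?_, fun y => ?_⟩
  · have h1 : (fun j => π n (x j)) = fun j => π n (y j) := (hT n).1 (funext fun j => by
      rw [← tmap_comp (π n) x j, ← tmap_comp (π n) y j, hxy])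
    exact congrFun h1 k
  · choose x hx using fun n => (hT n).2 fun k => π n (y k)
    have hw : ∀ n, (fun k => ((secP U).map (ARSys.tr D n.le_succ)).hom (x (n + 1) k)) = x n := fun n =>
      (hT n).1 (funext fun k => by
        rw [← tmap_comp, hx, hx]
        exact congrArg (fun t => ((secP U).map t).hom (y k)) (limit.w D (homOfLE n.le_succ).op))
    choose z hz using fun k => exists_elem (limit.isLimit D) (fun n => x n k) fun n => congrFun (hw n) k
    refine ⟨z, funext fun k => hext _ _ fun n => ?_⟩
    rw [tmap_comp, show (fun i => π n (z i)) = x n from funext fun i => hz i n, hx]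

/-- The completed constant sheaf. -/
theorem isDCSheaf_lambdaHat : ProEtDC.IsDCSheaf Λ I (ProEtDC.lambdaHat Λ X I) := by
  refine isDCSheaf_limit _ fun n => (isDCSheaf_iff I _).mpr fun f hf U _ => tb_of_pow_smul n fun x => ?_
  let M := (ProEtDC.quotTower Λ I).obj (op n)
  let cs := constantSheaf (Scheme.ProEt.topology X) (ModuleCat.{u + 1} Λ)
  have h0 : (f ^ n • 𝟙 M : M ⟶ M) = 0 := ModuleCat.hom_ext (LinearMap.ext fun q => by
    obtain ⟨q, rfl⟩ := Submodule.Quotient.mk_surjective (I ^ n • (⊤ : Submodule Λ Λ)) q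
    exact (Submodule.Quotient.mk_smul _ (f ^ n) q).symm.trans ((Submodule.Quotient.mk_eq_zero _).mpr
      (Submodule.smul_mem_smul (Ideal.pow_mem_pow hf n) trivial)))
  have h1 : (f ^ n • 𝟙 (cs.obj M) : cs.obj M ⟶ cs.obj M) = 0 := by
    refine Sheaf.hom_ext ?_
    refine sheafify_hom_ext (Scheme.ProEt.topology X) _ _ (cs.obj M).property ?_
    refine NatTrans.ext (funext fun V => ModuleCat.hom_ext (LinearMap.ext fun q => ?_))
    let η := (toSheafify (Scheme.ProEt.topology X) ((Functor.const X.ProEtᵒᵖ).obj M)).app V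
    show f ^ n • η.hom q = 0
    rw [← map_smul]
    exact (congrArg η.hom (congrArg (fun t => t.hom q) h0)).trans (map_zero _)
  exact congrArg (fun t => ((secP U).map t).hom x) h1

/-- Derived Nakayama. -/
theorem isZero_of_modGensIsZero {r : ℕ} (a : Fin r → Λ) {F : EtModW.ModP Λ X}
    (hF : ProEtDC.IsDCSheaf Λ (Ideal.span (Set.range a)) F) (h0 : ProEtDC.ModGensIsZero Λ a F) : IsZero F := by
  rw [isDCSheaf_iff] at hF
  refine (IsZero.iff_id_eq_zero F).mpr (hom_ext_awc fun U hU x => ?_)
  have hs : ∀ x : (secP (Λ := Λ) U).obj F, ∃ y : Fin r → (secP (Λ := Λ) U).obj F, ∑ k, a k • y k = x := fun x => by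
    haveI : Epi (biproduct.desc fun k : Fin r => ProEtDC.smulHom Λ F (a k)) := h0
    obtain ⟨z, rfl⟩ := surjective_of_epi (biproduct.desc fun k : Fin r => ProEtDC.smulHom Λ F (a k)) hU x
    refine ⟨fun k => ((secP U).map (biproduct.π (fun _ : Fin r => F) k)).hom z, ?_⟩
    have e : biproduct.desc (fun k : Fin r => ProEtDC.smulHom Λ F (a k)) =
        ∑ k, biproduct.π (fun _ : Fin r => F) k ≫ ProEtDC.smulHom Λ F (a k) := biproduct.hom_ext' _ _ fun j => by
      rw [biproduct.ι_desc, Preadditive.comp_sum, Finset.sum_eq_single j (fun b _ hb => by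
        rw [biproduct.ι_π_ne_assoc _ hb.symm, zero_comp]) (fun hj => absurd (Finset.mem_univ j) hj),
        biproduct.ι_π_self_assoc]
    rw [e, Functor.map_sum, ModuleCat.hom_sum, LinearMap.sum_apply]
    rfl
  have := eq_zero_of_sum a (fun k => hF (a k) (Ideal.subset_span ⟨k, rfl⟩) U hU) hs x
  subst this
  rw [map_zero, map_zero]

/-- Derived completeness and cohomology sheaves. -/
theorem isDC_iff_hdp (K : ProEtDC.DP Λ X) :
    ProEtDC.IsDC Λ I K ↔ ∀ p : ℤ, ProEtDC.IsDCSheaf Λ I (ProEtDC.HDP K p) := by
  rw [isDC_iff]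
  exact ⟨fun h p => (isDCSheaf_iff I _).mpr fun f hf U hU => h f hf U hU p,
    fun h f hf U hU p => (isDCSheaf_iff I _).mp (h p) f hf U hU⟩

end Groth.Agent.Et18.DC
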