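import Groth.Agent.Et18.ModEps.AdicExact
import Groth.Prelude.Def_ProEtDC
import Mathlib.CategoryTheory.Sites.ConstantSheaf
import Mathlib.CategoryTheory.Abelian.GrothendieckAxioms.Colim
import Mathlib.Algebra.Category.ModuleCat.EpiMono

/-!
# `j_{U!}` of modules and the telescope sequence
-/

universe w u

open CategoryTheory CategoryTheory.Limits AlgebraicGeometry Opposite

set_option backward.isDefEq.respectTransparency.types false
set_option backward.isDefEq.respectTransparency false
set_option synthInstance.maxHeartbeats 400000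
set_option maxHeartbeats 1000000

namespace Groth.Agent.Et18.DC

open ModEps

variable {Λ : Type (u + 1)} [CommRing Λ] {X : Scheme.{u}}

section Adj

variable (U : X.ProEt)

/-- Extension by zero of constant sheaves from an object of the site. -/
noncomputable abbrev jMod : ModuleCat.{u + 1} Λ ⥤ EtModW.ModP Λ X :=
  constantSheaf ((Scheme.ProEt.topology X).over U) (ModuleCat.{u + 1} Λ) ⋙ ProEtDC.extZeroModP Λ U

/-- `j_!` is left adjoint to sections. -/
noncomputable def jAdj : jMod (Λ := Λ) U ⊣ secP U :=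
  (constantSheafAdj ((Scheme.ProEt.topology X).over U) (ModuleCat.{u + 1} Λ) Over.mkIdTerminal).comp
    ((Over.forget U).sheafAdjunctionContinuous (ModuleCat.{u + 1} Λ) ((Scheme.ProEt.topology X).over U)
      (Scheme.ProEt.topology X))

/-- Morphisms out of `j_! M`. -/
noncomputable def jEquiv (M : ModuleCat.{u + 1} Λ) (F : EtModW.ModP Λ X) :
    ((jMod U).obj M ⟶ F) ≃ (M ⟶ (secP U).obj F) :=
  (jAdj U).homEquiv M F

lemma jEquiv_comp {M : ModuleCat.{u + 1} Λ} {F G : EtModW.ModP Λ X} (g : (jMod U).obj M ⟶ F) (k : F ⟶ G) :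
    jEquiv U M G (g ≫ k) = jEquiv U M F g ≫ (secP U).map k :=
  (jAdj U).homEquiv_naturality_right g k

lemma jEquiv_map_comp {M M' : ModuleCat.{u + 1} Λ} {F : EtModW.ModP Λ X} (a : M' ⟶ M) (g : (jMod U).obj M ⟶ F) :
    jEquiv U M' F ((jMod U).map a ≫ g) = a ≫ jEquiv U M F g :=
  (jAdj U).homEquiv_naturality_left a g

instance jMod_preservesColimits : PreservesColimitsOfSize.{u + 1, u + 1} (jMod (Λ := Λ) U) :=
  (jAdj U).leftAdjoint_preservesColimits

instance jMod_preservesFiniteColimits : PreservesFiniteColimits (jMod (Λ := Λ) U) :=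
  PreservesColimitsOfSize.preservesFiniteColimits _

instance jMod_additive : (jMod (Λ := Λ) U).Additive :=
  (jAdj U).left_adjoint_additive

lemma jMod_map_smul {M M' : ModuleCat.{u + 1} Λ} (a : M ⟶ M') (r : Λ) :
    (jMod U).map (r • a) = r • (jMod U).map a := by
  apply (jEquiv U M _).injective
  have h1 := jEquiv_map_comp U (r • a) (𝟙 _)
  have h2 := jEquiv_map_comp U a (𝟙 _)
  rw [Category.comp_id] at h1 h2
  have h3 := jEquiv_comp U ((jMod U).map a) (r • 𝟙 _)
  rw [Linear.comp_smul, Category.comp_id] at h3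
  rw [h3, h2, h1, Linear.smul_comp, secP_map_smul, Category.assoc, Linear.comp_smul, Linear.comp_smul,
    CategoryTheory.Functor.map_id, Category.comp_id]

end Adj

section Telescope

variable (Λ) in
/-- The free module on countably many generators. -/
noncomputable abbrev MN : ModuleCat.{u + 1} Λ := ModuleCat.of Λ (ℕ →₀ Λ)

variable (f : Λ)

/-- `e_k ↦ e_k - f e_{k+1}`, on the underlying module. -/
noncomputable def psiL : (ℕ →₀ Λ) →ₗ[Λ] (ℕ →₀ Λ) :=
  Finsupp.linearCombination Λ fun k => Finsupp.single k (1 : Λ) - f • Finsupp.single (k + 1) 1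

lemma psiL_single (k : ℕ) (a : Λ) :
    psiL f (Finsupp.single k a) = Finsupp.single k a - Finsupp.single (k + 1) (f * a) := by
  simp [psiL, Finsupp.linearCombination_single, smul_sub, Finsupp.smul_single, mul_comm]

/-- `e_k ↦ f^{-k}`, on the underlying module. -/
noncomputable def telL : (ℕ →₀ Λ) →ₗ[Λ] Localization.Away f :=
  Finsupp.linearCombination Λ fun k => IsLocalization.Away.invSelf (S := Localization.Away f) f ^ k

lemma telL_single (k : ℕ) (a : Λ) :
    telL f (Finsupp.single k a) = a • IsLocalization.Away.invSelf (S := Localization.Away f) f ^ k :=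
  Finsupp.linearCombination_single _ _ _

/-- `e_k ↦ e_k - f e_{k+1}`. -/
noncomputable def psi0 : MN Λ ⟶ MN Λ := ModuleCat.ofHom (psiL f)

/-- `e_k ↦ f^{-k}`. -/
noncomputable def tel : MN Λ ⟶ ModuleCat.of Λ (Localization.Away f) := ModuleCat.ofHom (telL f)

lemma smul_invSelf : f • IsLocalization.Away.invSelf (S := Localization.Away f) f = 1 := by
  rw [Algebra.smul_def, IsLocalization.Away.mul_invSelf]

lemma telL_psiL : telL f ∘ₗ psiL f = 0 := by
  refine Finsupp.lhom_ext fun k a => ?_
  rw [LinearMap.comp_apply, psiL_single, map_sub, telL_single, telL_single, pow_succ, mul_comm f a, mul_smul,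
    ← mul_smul_comm f, smul_invSelf, mul_one, sub_self, LinearMap.zero_apply]

lemma psi0_tel : psi0 f ≫ tel f = 0 := ModuleCat.hom_ext (telL_psiL f)

/-- The telescope sequence. -/
noncomputable def telSC : ShortComplex (ModuleCat.{u + 1} Λ) := ShortComplex.mk (psi0 f) (tel f) (psi0_tel f)

lemma exact_telL (x : ℕ →₀ Λ) (hx : telL f x = 0) : x ∈ LinearMap.range (psiL f) := by
  let R : Submodule Λ (ℕ →₀ Λ) := LinearMap.range (psiL f)
  have hstep : ∀ k (a : Λ) d, Finsupp.single k a - Finsupp.single (k + d) (f ^ d * a) ∈ R := by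
    intro k a d
    induction d with
    | zero => simp
    | succ d ih =>
      have h1 : Finsupp.single (k + d) (f ^ d * a) - Finsupp.single (k + (d + 1)) (f ^ (d + 1) * a) ∈ R := by
        refine ⟨Finsupp.single (k + d) (f ^ d * a), ?_⟩
        rw [psiL_single, ← mul_assoc, ← pow_succ', add_assoc]
      simpa using add_mem ih h1
  have hmain : ∀ y : ℕ →₀ Λ, ∃ (N : ℕ) (a : Λ), y - Finsupp.single N a ∈ R := by
    intro y
    induction y using Finsupp.induction_linear with
    | zero => exact ⟨0, 0, by simp⟩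
    | single k a => exact ⟨k, a, by simp⟩
    | add y z hy hz =>
      obtain ⟨N, a, ha⟩ := hy
      obtain ⟨N', b, hb⟩ := hz
      refine ⟨N + N', f ^ N' * a + f ^ N * b, ?_⟩
      have h1 := add_mem ha (hstep N a N')
      have h2 := add_mem hb (hstep N' b N)
      rw [Nat.add_comm N' N] at h2
      have := add_mem h1 h2
      convert this using 1
      rw [Finsupp.single_add]
      abel
  obtain ⟨N, a, ha⟩ := hmain x
  have h0 : a • IsLocalization.Away.invSelf (S := Localization.Away f) f ^ N = 0 := by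
    obtain ⟨y, hy⟩ := ha
    have h1 : telL f (x - Finsupp.single N a) = 0 := by
      rw [← hy]
      exact LinearMap.congr_fun (telL_psiL f) y
    rwa [map_sub, hx, zero_sub, neg_eq_zero, telL_single] at h1
  have h1 : algebraMap Λ (Localization.Away f) a = 0 := by
    have := congrArg (fun t => f ^ N • t) h0
    simp only [smul_zero] at this
    rwa [smul_comm, ← smul_pow, smul_invSelf, one_pow, ← Algebra.algebraMap_eq_smul_one] at this
  obtain ⟨⟨_, m, rfl⟩, hm⟩ := (IsLocalization.map_eq_zero_iff (Submonoid.powers f) (Localization.Away f) a).mp h1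
  have h2 : Finsupp.single N a ∈ R := by
    have := hstep N a m
    rwa [hm, Finsupp.single_zero, sub_zero] at this
  have h3 := add_mem ha h2
  rwa [sub_add_cancel] at h3

lemma exact_telSC : (telSC f).Exact := by
  rw [ShortComplex.moduleCat_exact_iff]
  exact exact_telL f

lemma surjective_telL : Function.Surjective (telL f) := fun z => by
  obtain ⟨n, a, h⟩ := IsLocalization.Away.surj f z
  refine ⟨Finsupp.single n a, ?_⟩
  rw [telL_single, Algebra.smul_def, ← h, mul_assoc, ← mul_pow,
    IsLocalization.Away.mul_invSelf, one_pow, mul_one]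

/-- A partial inverse of the telescope map. -/
noncomputable def tr0 (n : ℕ) : (ℕ →₀ Λ) →ₗ[Λ] (Fin n →₀ Λ) :=
  (Finsupp.linearEquivFunOnFinite Λ Λ (Fin n)).symm.toLinearMap ∘ₗ
    Finsupp.linearCombination Λ fun j => fun k : Fin n => if j ≤ (k : ℕ) then f ^ ((k : ℕ) - j) else 0

variable (Λ) in
/-- The inclusion of the first `n` generators. -/
noncomputable def incN (n : ℕ) : (Fin n →₀ Λ) →ₗ[Λ] (ℕ →₀ Λ) := Finsupp.lmapDomain Λ Λ Fin.val

lemma tr0_psiL_incN (n : ℕ) : tr0 f n ∘ₗ psiL f ∘ₗ incN Λ n = LinearMap.id := by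
  refine Finsupp.lhom_ext fun i a => ?_
  apply (Finsupp.linearEquivFunOnFinite Λ Λ (Fin n)).injective
  funext k
  simp only [LinearMap.comp_apply, incN, Finsupp.lmapDomain_apply, Finsupp.mapDomain_single, psiL_single,
    tr0, LinearEquiv.coe_coe, LinearEquiv.apply_symm_apply, map_sub, Finsupp.linearCombination_single,
    LinearMap.id_apply, Pi.sub_apply, Pi.smul_apply, smul_eq_mul, Finsupp.linearEquivFunOnFinite_single]
  rcases lt_trichotomy (i : ℕ) (k : ℕ) with hik | hik | hik
  · rw [if_pos hik.le, if_pos (by omega), Pi.single_eq_of_ne (fun e => by subst e; omega), mul_comm f a,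
      mul_assoc a f, ← pow_succ', show (k : ℕ) - ((i : ℕ) + 1) + 1 = (k : ℕ) - (i : ℕ) by omega, sub_self]
  · obtain rfl : i = k := Fin.ext hik
    simp
  · rw [if_neg (by omega), if_neg (by omega), Pi.single_eq_of_ne (fun e => by subst e; omega)]
    simp

/-- The stages of the free module. -/
noncomputable def stageD : ULift.{u + 1} ℕ ⥤ ModuleCat.{u + 1} Λ where
  obj n := ModuleCat.of Λ (Fin n.down →₀ Λ)
  map {n m} h := ModuleCat.ofHom (Finsupp.lmapDomain Λ Λ (Fin.castLE (show n ≤ m from leOfHom h)))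
  map_id n := ModuleCat.hom_ext (Finsupp.lmapDomain_id Λ Λ)
  map_comp {n m l} h h' := ModuleCat.hom_ext (Finsupp.lhom_ext fun i a => by
    simp)

/-- The free module as a colimit of its stages. -/
noncomputable def stageC : Cocone (stageD (Λ := Λ)) where
  pt := MN Λ
  ι :=
    { app n := (ModuleCat.ofHom (incN Λ n.down) : ModuleCat.of Λ (Fin n.down →₀ Λ) ⟶ MN Λ)
      naturality {n m} h := ModuleCat.hom_ext (Finsupp.lhom_ext fun i a => by
        simp [stageD, incN]) }

/-- It is a colimit. -/
noncomputable def isColimitStageC : IsColimit (stageC (Λ := Λ)) where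
  desc s := (ModuleCat.ofHom (Finsupp.linearCombination Λ fun k : ℕ =>
    (s.ι.app ⟨k + 1⟩).hom (Finsupp.single (Fin.last k) (1 : Λ) : Fin (k + 1) →₀ Λ)) : MN Λ ⟶ s.pt)
  fac s n := by
    refine ModuleCat.hom_ext (Finsupp.lhom_ext fun i a => ?_)
    show Finsupp.linearCombination Λ _ (Finsupp.mapDomain Fin.val (Finsupp.single i a)) = _
    rw [Finsupp.mapDomain_single, Finsupp.linearCombination_single]
    refine (map_smul _ _ _).symm.trans ?_
    have hle : (⟨(i : ℕ) + 1⟩ : ULift.{u + 1} ℕ) ≤ n := show (i : ℕ) + 1 ≤ n.down by omega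
    refine (LinearMap.congr_fun (congrArg ModuleCat.Hom.hom (s.w (homOfLE hle))) _).symm.trans
      (congrArg (s.ι.app n).hom ?_)
    show Finsupp.mapDomain _ (a • Finsupp.single (Fin.last (i : ℕ)) (1 : Λ)) = Finsupp.single i a
    rw [Finsupp.smul_single, smul_eq_mul, mul_one, Finsupp.mapDomain_single]
    exact congrArg (fun j => Finsupp.single j a) (Fin.ext rfl)
  uniq s m hm := by
    refine ModuleCat.hom_ext (Finsupp.lhom_ext fun k a => ?_)
    show m.hom (Finsupp.single k a) = Finsupp.linearCombination Λ _ (Finsupp.single k a)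
    rw [Finsupp.linearCombination_single]
    refine Eq.trans ?_ (map_smul _ _ _)
    refine Eq.trans (congrArg m.hom ?_) (LinearMap.congr_fun (congrArg ModuleCat.Hom.hom (hm ⟨k + 1⟩)) _)
    show Finsupp.single k a = Finsupp.mapDomain Fin.val (a • Finsupp.single (Fin.last k) (1 : Λ))
    rw [Finsupp.smul_single, smul_eq_mul, mul_one, Finsupp.mapDomain_single]
    rfl

/-- The telescope map stays injective after `j_!`. -/
theorem mono_jMod_psi0 (U : X.ProEt) : Mono ((jMod U).map (psi0 f)) := by
  let D := stageD (Λ := Λ) ⋙ jMod U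
  let φ : D ⟶ (Functor.const (ULift.{u + 1} ℕ)).obj ((jMod U).obj (MN Λ)) :=
    { app n := (jMod U).map ((stageC (Λ := Λ)).ι.app n ≫ psi0 f)
      naturality n m h := by
        show (jMod U).map _ ≫ (jMod U).map _ = (jMod U).map _ ≫ 𝟙 _
        rw [Category.comp_id, ← Functor.map_comp, ← Category.assoc]
        exact congrArg (fun t => (jMod U).map (t ≫ psi0 f)) ((stageC (Λ := Λ)).w h) }
  haveI : ∀ n, Mono (φ.app n) := fun n => by
    haveI : IsSplitMono ((stageC (Λ := Λ)).ι.app n ≫ psi0 f) :=
      IsSplitMono.mk' ⟨(ModuleCat.ofHom (tr0 f n.down) : MN Λ ⟶ ModuleCat.of Λ (Fin n.down →₀ Λ)),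
        ModuleCat.hom_ext (tr0_psiL_incN f n.down)⟩
    exact inferInstanceAs (Mono ((jMod U).map ((stageC (Λ := Λ)).ι.app n ≫ psi0 f)))
  haveI := NatTrans.mono_of_mono_app φ
  haveI : IsConnected (ULift.{u + 1} ℕ) := IsFiltered.isConnected _
  exact colim.map_mono' φ (isColimitOfPreserves (jMod U) (isColimitStageC (Λ := Λ)))
    (isColimitConstCocone _ _) _ fun n => by
      show (jMod U).map _ ≫ (jMod U).map _ = (jMod U).map _ ≫ 𝟙 _
      rw [Category.comp_id, Functor.map_comp]

/-- The telescope sequence after `j_!`. -/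
theorem shortExact_telSC (U : X.ProEt) : ((telSC f).map (jMod U)).ShortExact := by
  haveI : Epi (telSC f).g := (ModuleCat.epi_iff_surjective (tel f)).mpr (surjective_telL f)
  haveI : Epi ((telSC f).map (jMod U)).g := inferInstanceAs (Epi ((jMod U).map (telSC f).g))
  haveI : Mono ((telSC f).map (jMod U)).f := mono_jMod_psi0 f U
  exact
    { exact := (exact_telSC f).map_of_epi_of_preservesCokernel (jMod U) inferInstance inferInstance }

end Telescope

end Groth.Agent.Et18.DC
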