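import Groth.Agent.Et18.DC.Basic
import Mathlib.Algebra.Homology.DerivedCategory.Fractions
import Mathlib.Algebra.Homology.DerivedCategory.ShortExact
import Mathlib.Algebra.Homology.SingleHomology
import Mathlib.Algebra.Homology.Linear

/-!
# Derived completeness on weakly contractible objects
-/

universe w u

open CategoryTheory CategoryTheory.Limits AlgebraicGeometry Opposite HomologicalComplex Pretriangulated

set_option backward.isDefEq.respectTransparency.types false
set_option backward.isDefEq.respectTransparency false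
set_option synthInstance.maxHeartbeats 400000
set_option maxHeartbeats 1000000

attribute [local instance] HasDerivedCategory.standard

namespace Groth.Agent.Et18.DC

open ModEps

variable {Λ : Type (u + 1)} [CommRing Λ] {X : Scheme.{u}}

/-- The telescope map of a module. -/
def tmap (f : Λ) (A : Type*) [AddCommGroup A] [Module Λ A] (x : ℕ → A) : ℕ → A := fun k => x k - f • x (k + 1)

/-- The telescope map is bijective. -/
abbrev TB (f : Λ) (A : Type*) [AddCommGroup A] [Module Λ A] : Prop := Function.Bijective (tmap f A)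

lemma tmap_comp {f : Λ} {A B : Type*} [AddCommGroup A] [Module Λ A] [AddCommGroup B] [Module Λ B]
    (e : A →ₗ[Λ] B) (x : ℕ → A) (k : ℕ) : e (tmap f A x k) = tmap f B (fun i => e (x i)) k := by
  simp [tmap]

lemma TB.of_equiv {f : Λ} {A B : Type*} [AddCommGroup A] [Module Λ A] [AddCommGroup B] [Module Λ B]
    (e : A ≃ₗ[Λ] B) (h : TB f A) : TB f B := by
  refine ⟨fun x y hxy => ?_, fun y => ?_⟩
  · have : (fun i => e.symm (x i)) = fun i => e.symm (y i) := h.1 (funext fun k =>
      (tmap_comp e.symm.toLinearMap x k).symm.trans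
        ((congrArg e.symm (congrFun hxy k)).trans (tmap_comp e.symm.toLinearMap y k)))
    exact funext fun i => e.symm.injective (congrFun this i)
  · obtain ⟨x, hx⟩ := h.2 fun i => e.symm (y i)
    exact ⟨fun i => e (x i), funext fun k => (tmap_comp e.toLinearMap x k).symm.trans
      ((congrArg e (congrFun hx k)).trans (e.apply_symm_apply _))⟩

lemma TB.of_iso {f : Λ} {A B : ModuleCat.{u + 1} Λ} (e : A ≅ B) (h : TB f A) : TB f B := h.of_equiv e.toLinearEquiv

/-- Exact sequences stay exact on sections over weakly contractible objects. -/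
theorem exists_preimage_awc {S : ShortComplex (EtModW.ModP Λ X)} (hS : S.Exact) {U : X.ProEt} (hU : IsAWC U)
    (x : (secP (Λ := Λ) U).obj S.X₂) (hx : ((secP U).map S.g).hom x = 0) :
    ∃ a, ((secP U).map S.f).hom a = x := by
  haveI : Mono (ShortComplex.mk (kernel.ι S.g) S.g (kernel.condition _)).f := inferInstanceAs (Mono (kernel.ι S.g))
  obtain ⟨k, rfl⟩ := (ShortComplex.moduleCat_exact_iff _).mp
    ((ShortComplex.exact_kernel S.g).map_of_mono_of_preservesKernel (secP U) inferInstance inferInstance) x hx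
  haveI := hS.epi_kernelLift
  obtain ⟨a, rfl⟩ := surjective_of_epi (kernel.lift S.g S.f S.zero) hU k
  refine ⟨a, ?_⟩
  refine Eq.trans ?_ (secP_comp_apply _ _ _)
  rw [kernel.lift_ι]

section Complexes

variable (K : CochainComplex (EtModW.ModP Λ X) ℤ) {U : X.ProEt}

theorem exists_cycle (hU : IsAWC U) (n : ℤ) (x : (secP (Λ := Λ) U).obj (K.X n))
    (hx : ((secP U).map (K.d n (n + 1))).hom x = 0) :
    ∃ z : (secP (Λ := Λ) U).obj (K.cycles n), ((secP U).map (K.iCycles n)).hom z = x :=
  exists_preimage_awc (S := ShortComplex.mk (K.iCycles n) (K.d n (n + 1)) (K.iCycles_d n (n + 1)))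
    (ShortComplex.exact_of_f_is_kernel _ (K.cyclesIsKernel n (n + 1) (by simp))) hU x hx

theorem exists_boundary (hU : IsAWC U) (n : ℤ) (z : (secP (Λ := Λ) U).obj (K.cycles n))
    (hz : ((secP U).map (K.homologyπ n)).hom z = 0) :
    ∃ w : (secP (Λ := Λ) U).obj (K.X (n - 1)), ((secP U).map (K.toCycles (n - 1) n)).hom w = z :=
  exists_preimage_awc (S := ShortComplex.mk (K.toCycles (n - 1) n) (K.homologyπ n) (K.toCycles_comp_homologyπ _ _))
    (ShortComplex.exact_of_g_is_cokernel _ (K.homologyIsCokernel (n - 1) n (by simp))) hU z hz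

theorem surjective_homologyπ (hU : IsAWC U) (n : ℤ) : Function.Surjective ((secP (Λ := Λ) U).map (K.homologyπ n)).hom :=
  surjective_of_epi _ hU

end Complexes

section Sufficiency

variable {f : Λ}

/-- If the telescope map is bijective on the cohomology over weakly contractible objects, it is a
quasi-isomorphism. -/
theorem quasiIso_telescope (L : CochainComplex (EtModW.ModP Λ X) ℤ)
    (hL : ∀ U : X.ProEt, IsAWC U → ∀ p, TB f ((secP (Λ := Λ) U).obj (L.homology p))) :
    QuasiIso (Pi.lift fun k : ℕ => Pi.π (fun _ : ℕ => L) k - f • Pi.π (fun _ : ℕ => L) (k + 1)) := by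
  let P := ∏ᶜ fun _ : ℕ => L
  let pr := fun k => Pi.π (fun _ : ℕ => L) k
  let T : P ⟶ P := Pi.lift fun k : ℕ => pr k - f • pr (k + 1)
  show QuasiIso T
  refine ⟨fun p => ?_⟩
  rw [quasiIsoAt_iff_isIso_homologyMap]
  refine isIso_of_awc _ fun U hU => ?_
  let s : ∀ {A B : EtModW.ModP Λ X}, (A ⟶ B) → ((secP U).obj A →ₗ[Λ] (secP U).obj B) :=
    fun k => ((secP U).map k).hom
  have sc : ∀ {A B C : EtModW.ModP Λ X} (a : A ⟶ B) (b : B ⟶ C) (x : (secP U).obj A),
      s b (s a x) = s (a ≫ b) x := fun a b x => rfl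
  let Θ : (secP (Λ := Λ) U).obj (P.homology p) → (ℕ → (secP (Λ := Λ) U).obj (L.homology p)) :=
    fun c k => s (homologyMap (pr k) p) c
  let hlim := fun n : ℤ => isLimitOfPreserves (HomologicalComplex.eval (EtModW.ModP Λ X) (ComplexShape.up ℤ) n ⋙ secP U)
    (productIsProduct fun _ : ℕ => L)
  have hjoint : ∀ n (a b : (secP (Λ := Λ) U).obj (P.X n)), (∀ k, s ((pr k).f n) a = s ((pr k).f n) b) → a = b :=
    fun n a b h => Concrete.isLimit_ext _ (hlim n) a b fun ⟨k⟩ => h k
  have hlift : ∀ n (y : ℕ → (secP (Λ := Λ) U).obj (L.X n)), ∃ a, ∀ k, s ((pr k).f n) a = y k := fun n y =>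
    ⟨((hlim n).lift { pt := ModuleCat.of Λ Λ
                      π := Discrete.natTrans fun ⟨k⟩ => ModuleCat.ofHom (LinearMap.toSpanSingleton Λ _ (y k)) }).hom 1,
      fun k => (LinearMap.congr_fun (congrArg ModuleCat.Hom.hom ((hlim n).fac _ ⟨k⟩)) 1).trans (one_smul Λ (y k))⟩
  have hπ : ∀ k z, s (homologyMap (pr k) p) (s (P.homologyπ p) z) = s (L.homologyπ p) (s (cyclesMap (pr k) p) z) :=
    fun k z => by
      rw [sc, sc, homologyπ_naturality]
  have hi : ∀ k z, s (L.iCycles p) (s (cyclesMap (pr k) p) z) = s ((pr k).f p) (s (P.iCycles p) z) := fun k z => by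
    rw [sc, sc, cyclesMap_i]
  have hΘ : Function.Bijective Θ := by
    constructor
    · intro c c' h
      obtain ⟨z, rfl⟩ := surjective_homologyπ P hU p c
      obtain ⟨z', rfl⟩ := surjective_homologyπ P hU p c'
      have h0 : ∀ k, s (L.homologyπ p) (s (cyclesMap (pr k) p) (z - z')) = 0 := fun k => by
        rw [map_sub, map_sub, ← hπ, ← hπ, sub_eq_zero]
        exact congrFun h k
      choose w hw using fun k => exists_boundary L hU p _ (h0 k)
      obtain ⟨a, ha⟩ := hlift (p - 1) w
      have hz : s (P.toCycles (p - 1) p) a = z - z' := by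
        apply (ModuleCat.mono_iff_injective ((secP U).map (P.iCycles p))).mp inferInstance
        refine hjoint p _ _ fun k => ?_
        rw [← hi k (z - z'), ← hw k, ← ha k]
        rw [sc, sc, sc, sc, toCycles_i_assoc, toCycles_i, ← Hom.comm]
      rw [← sub_eq_zero]
      show s (P.homologyπ p) z - s (P.homologyπ p) z' = 0
      rw [← map_sub, ← hz, sc, toCycles_comp_homologyπ]
      exact rfl
    · intro c
      choose z hz using fun k => surjective_homologyπ L hU p (c k)
      obtain ⟨a, ha⟩ := hlift p fun k => s (L.iCycles p) (z k)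
      have hd : s (P.d p (p + 1)) a = 0 := hjoint _ _ _ fun k => by
        rw [map_zero, sc, ← (pr k).comm, ← sc, ha, sc, iCycles_d]
        exact rfl
      obtain ⟨b, hb⟩ := exists_cycle P hU p a hd
      refine ⟨s (P.homologyπ p) b, funext fun k => (hπ k b).trans ((congrArg _ ?_).trans (hz k))⟩
      apply (ModuleCat.mono_iff_injective ((secP U).map (L.iCycles p))).mp inferInstance
      refine (hi k b).trans ?_
      exact (congrArg (s ((pr k).f p)) hb).trans (ha k)
  have hcomm : ∀ c, Θ (s (homologyMap T p) c) = tmap f _ (Θ c) := fun c => funext fun k => by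
    show s _ (s _ c) = _
    rw [sc, ← homologyMap_comp]
    rw [show T ≫ pr k = pr k - f • pr (k + 1) from Pi.lift_π _ k]
    rw [show homologyMap (pr k - f • pr (k + 1)) p = homologyMap (pr k) p - f • homologyMap (pr (k + 1)) p by
      rw [homologyMap_sub]; congr 1; exact ShortComplex.homologyMap_smul ((shortComplexFunctor _ _ p).map (pr (k + 1))) f]
    simp only [s]
    rw [Functor.map_sub, secP_map_smul]
    rfl
  have : Θ ∘ s (homologyMap T p) = tmap f _ ∘ Θ := funext hcomm
  exact (Function.Bijective.of_comp_iff' hΘ _).mp (this ▸ (hL U hU p).comp hΘ)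

/-- Maps from an object on which `f` is invertible into such complexes vanish. -/
theorem Q_map_eq_zero {Xo : EtModW.ModP Λ X} (c : Xo ⟶ Xo) (hc : f • c = 𝟙 Xo)
    {L : CochainComplex (EtModW.ModP Λ X) ℤ}
    (hL : ∀ U : X.ProEt, IsAWC U → ∀ p, TB f ((secP (Λ := Λ) U).obj (L.homology p)))
    (g : (CochainComplex.singleFunctor (EtModW.ModP Λ X) 0).obj Xo ⟶ L) : DerivedCategory.Q.map g = 0 := by
  haveI := quasiIso_telescope L hL
  let T : (∏ᶜ fun _ : ℕ => L) ⟶ ∏ᶜ fun _ : ℕ => L :=
    Pi.lift fun k : ℕ => Pi.π (fun _ : ℕ => L) k - f • Pi.π (fun _ : ℕ => L) (k + 1)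
  let cp : ℕ → (Xo ⟶ Xo) := fun n => Nat.rec (𝟙 Xo) (fun _ h => c ≫ h) n
  let G := Pi.lift (f := fun _ : ℕ => L) fun k =>
    (CochainComplex.singleFunctor (EtModW.ModP Λ X) 0).map (cp k) ≫ g
  have hG : G ≫ T = 0 := by
    refine Pi.hom_ext _ _ fun k => ?_
    rw [Category.assoc, Pi.lift_π, Preadditive.comp_sub, zero_comp, sub_eq_zero]
    refine Eq.trans ?_ (Linear.comp_smul (R := Λ) _ _ _ G f (Pi.π (fun _ : ℕ => L) (k + 1))).symm
    rw [Pi.lift_π, Pi.lift_π]
    refine Eq.trans ?_ (Linear.smul_comp (R := Λ) _ _ _ f _ g)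
    refine congrArg (fun t => t ≫ g) ?_
    refine from_single_hom_ext ?_
    rw [smul_f_apply]
    show ((single _ (ComplexShape.up ℤ) 0).map (cp k)).f 0 = f • ((single _ (ComplexShape.up ℤ) 0).map (cp (k + 1))).f 0
    rw [single_map_f_self, single_map_f_self, show cp (k + 1) = c ≫ cp k from rfl]
    have : f • (c ≫ cp k) = cp k := by rw [← Linear.smul_comp, hc, Category.id_comp]
    conv_lhs => rw [← this]
    simp
  haveI : IsIso (DerivedCategory.Q.map T) := (DerivedCategory.isIso_Q_map_iff_quasiIso _ T).mpr (quasiIso_telescope L hL)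
  have h0 : DerivedCategory.Q.map G = 0 := by
    rw [← cancel_mono (DerivedCategory.Q.map T), ← Functor.map_comp, hG, Functor.map_zero, zero_comp]
  have : g = G ≫ Pi.π _ 0 := by
    rw [Pi.lift_π]
    exact ((congrArg (fun t => t ≫ g) ((CochainComplex.singleFunctor (EtModW.ModP Λ X) 0).map_id Xo)).trans
      (Category.id_comp g)).symm
  rw [this, Functor.map_comp, h0, zero_comp]

end Sufficiency

end Groth.Agent.Et18.DC
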