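import Groth.Agent.Et18.DC.Hat
import Groth.Agent.ProEtWC.Coprod

/-!
# Derived complete sheaves with finitely presented reduction are quotients of powers of `Λ^∧`
-/

universe u

open CategoryTheory CategoryTheory.Limits AlgebraicGeometry Opposite

set_option backward.isDefEq.respectTransparency.types false
set_option backward.isDefEq.respectTransparency false
set_option synthInstance.maxHeartbeats 400000
set_option maxHeartbeats 1000000

namespace Groth.Agent.Et18.DC

open ModEps

variable {Λ : Type (u + 1)} [CommRing Λ] {X : Scheme.{u}}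

theorem eq_of_covering (T : EtModW.ModP Λ X) {V : X.ProEt} {R : Sieve V} (hR : R ∈ Scheme.ProEt.topology X V)
    {x y : T.obj.obj (op V)} (h : ∀ (Z : X.ProEt) (b : Z ⟶ V), R b → T.obj.map b.op x = T.obj.map b.op y) :
    x = y :=
  (Presieve.IsSheaf.isSeparated ((isSheaf_iff_isSheaf_of_type _ _).1
    ((sheafCompose (Scheme.ProEt.topology X) (CategoryTheory.forget (ModuleCat.{u + 1} Λ))).obj T).property)
      R hR).ext fun Z b hb => h Z b hb

/-- A morphism killing local generators of a locally constant sheaf vanishes locally. -/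
theorem exists_gens_over (Q : EtModW.ModP Λ X) (U : X.ProEt) {M : Type (u + 1)} [AddCommGroup M] [Module Λ M]
    [Module.Finite Λ M]
    (e : Q.over U ≅
      (constantSheaf ((Scheme.ProEt.topology X).over U) (ModuleCat.{u + 1} Λ)).obj (ModuleCat.of Λ M)) :
    ∃ (N : ℕ) (g : Fin N → Q.obj.obj (op U)), ∀ (T : EtModW.ModP Λ X) (h : Q ⟶ T) (W : X.ProEt) (w : W ⟶ U),
      (∀ j, (h.hom.app (op W)).hom (Q.obj.map w.op (g j)) = 0) →
      ∀ (V : X.ProEt) (v : V ⟶ W) (s : Q.obj.obj (op V)), (h.hom.app (op V)).hom s = 0 := by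
  let JU := (Scheme.ProEt.topology X).over U
  obtain ⟨N, m, hm⟩ := Module.Finite.exists_fin (R := Λ) (M := M)
  let θ : (Functor.const (Over U)ᵒᵖ).obj (ModuleCat.of Λ M) ⟶ (Over.forget U).op ⋙ Q.obj :=
    toSheafify JU _ ≫ e.inv.hom
  haveI : IsIso e.inv.hom := inferInstanceAs (IsIso ((sheafToPresheaf JU (ModuleCat.{u + 1} Λ)).map e.inv))
  haveI : Presheaf.IsLocallySurjective JU θ := by
    haveI : Presheaf.IsLocallySurjective JU (toSheafify JU ((Functor.const (Over U)ᵒᵖ).obj (ModuleCat.of Λ M))) :=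
      inferInstance
    haveI : Presheaf.IsLocallySurjective JU e.inv.hom := inferInstance
    exact Presheaf.isLocallySurjective_comp JU _ _
  refine ⟨N, fun j => (θ.app (op (Over.mk (𝟙 U)))).hom (m j), fun T h W w hw V v s => ?_⟩
  have hres : ∀ (Z : X.ProEt) (b : Z ⟶ U) (t : M),
      Q.obj.map b.op ((θ.app (op (Over.mk (𝟙 U)))).hom t) = (θ.app (op (Over.mk b))).hom t := fun Z b t =>
    (NatTrans.naturality_apply θ (Over.homMk b (Category.comp_id b) : Over.mk b ⟶ Over.mk (𝟙 U)).op t).symm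
  have hzero : ∀ (Z : X.ProEt) (b : Z ⟶ W) (t : M),
      (h.hom.app (op Z)).hom ((θ.app (op (Over.mk (b ≫ w)))).hom t) = 0 := fun Z b t => by
    have ht : t ∈ Submodule.span Λ (Set.range m) := hm ▸ trivial
    induction ht using Submodule.span_induction with
    | mem x hx =>
      obtain ⟨j, rfl⟩ := hx
      rw [← hres, op_comp, Functor.map_comp]
      refine (NatTrans.naturality_apply h.hom b.op _).trans ?_
      exact (congrArg (T.obj.map b.op).hom (hw j)).trans (map_zero _)
    | zero => rw [map_zero, map_zero]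
    | add x y _ _ hx hy => rw [map_add, map_add, hx, hy, add_zero]
    | smul c x _ hx => rw [map_smul, map_smul, hx, smul_zero]
  refine eq_of_covering T
    ((GrothendieckTopology.mem_over_iff _ _).1 (Presheaf.imageSieve_mem JU θ (U := op (Over.mk (v ≫ w))) s))
    fun Z b hb => ?_
  obtain ⟨t, ht⟩ := (Sieve.overEquiv_iff _ _).1 hb
  rw [map_zero]
  refine (NatTrans.naturality_apply h.hom b.op s).symm.trans ?_
  refine (congrArg (h.hom.app (op Z)).hom ht.symm).trans ?_
  show (h.hom.app (op Z)).hom ((θ.app (op (Over.mk (b ≫ v ≫ w)))).hom t) = 0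
  have := hzero Z (b ≫ v) t
  rwa [Category.assoc] at this

/-- Finitely many global sections generating a locally constant sheaf over a weakly contractible scheme. -/
theorem exists_global_gens [IsAffine X] (hX : EtPBC.IsWContractible ↥(Γ(X, ⊤))) (Q : EtModW.ModP Λ X)
    (hQ : EtModW.IsFPLocConstP Λ Q) :
    ∃ (κ : Type) (_ : Fintype κ) (t : κ → (secP (ProEtS.topP X)).obj Q), ∀ (T : EtModW.ModP Λ X) (h : Q ⟶ T),
      (∀ k, ((secP (ProEtS.topP X)).map h).hom (t k) = 0) → h = 0 := by
  obtain ⟨ι, U, hcov, hM⟩ := hQ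
  haveI : IsAffine (ProEtS.topP X).left := ‹IsAffine X›
  obtain ⟨n, W, -, hdisj, hcover, hW⟩ :=
    ProEtWC.clopenRefined_of_wContractible (U := ProEtS.topP X) hX _ hcov
  have hW' : ∀ k, ∃ i, Nonempty (ProEtWC.openObj (ProEtS.topP X) (W k) ⟶ U i) := fun k => by
    obtain ⟨_, a, _, ⟨i⟩, _⟩ := hW k
    exact ⟨i, ⟨a⟩⟩
  choose i hi using hW'
  choose M hMg hMm hMfp hMe using fun k => hM (i k)
  choose N g hg using fun k =>
    letI := hMg k
    letI := hMm k
    haveI := hMfp k
    exists_gens_over Q (U (i k)) (hMe k).some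
  let F' := (sheafCompose (Scheme.ProEt.topology X) (CategoryTheory.forget (ModuleCat.{u + 1} Λ))).obj Q
  let o : ∀ k, ProEtWC.openObj (ProEtS.topP X) (W k) ⟶ ProEtS.topP X := fun k =>
    ProEtWC.openIncl (ProEtS.topP X) (W k)
  haveI : ∀ k, IsOpenImmersion (o k).left := fun k => inferInstanceAs (IsOpenImmersion (W k).ι)
  have hr : ∀ k, Set.range (o k).left = (W k : Set ↥(ProEtS.topP X).left) := fun k => (W k).range_ι
  have hcov' : ∀ x : (ProEtS.topP X).left, ∃ k, x ∈ Set.range (o k).left := fun x => by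
    obtain ⟨k, hk⟩ := Set.mem_iUnion.1 (hcover.ge (Set.mem_univ x))
    exact ⟨k, (hr k).ge hk⟩
  have hglue : ∀ p : Σ k, Fin (N k), ∃ t : (secP (ProEtS.topP X)).obj Q,
      Q.obj.map (o p.1).op t = Q.obj.map (hi p.1).some.op (g p.1 p.2) := fun p => by
    classical
    obtain ⟨t, ht⟩ := ProEtWC.exists_glue _ o hcov' (fun k l hkl => by
        show Disjoint (Set.range (o k).left) (Set.range (o l).left)
        rw [hr, hr]; exact hdisj hkl) F'
      (fun l => (Pi.single p.1 (Q.obj.map (hi p.1).some.op (g p.1 p.2)) :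
        ∀ l, Q.obj.obj (op (ProEtWC.openObj (ProEtS.topP X) (W l)))) l)
    exact ⟨t, (ht p.1).trans (Pi.single_eq_same _ _)⟩
  choose t ht using hglue
  refine ⟨Σ k, Fin (N k), inferInstance, t, fun T h hh => ?_⟩
  have key : ∀ k (V : X.ProEt) (v : V ⟶ ProEtWC.openObj (ProEtS.topP X) (W k)) (s : Q.obj.obj (op V)),
      (h.hom.app (op V)).hom s = 0 := fun k => by
    refine hg k T h _ (hi k).some fun j => ?_
    rw [← ht ⟨k, j⟩]
    exact (NatTrans.naturality_apply h.hom (o k).op _).trans
      ((congrArg (T.obj.map (o k).op).hom (hh ⟨k, j⟩)).trans (map_zero _))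
  refine hom_ext_awc fun V _ s => ?_
  refine Eq.trans ?_ (show (0 : (secP V).obj T) = ((secP V).map (0 : Q ⟶ T)).hom s by rw [Functor.map_zero]; rfl)
  refine eq_of_covering T ((Scheme.ProEt.topology X).pullback_stable (isTerminalTopP.from V)
    (Precoverage.generate_mem_toGrothendieck (ProEtWC.ofArrows_mem_precoverage _ o hcov'))) fun Z b hb => ?_
  obtain ⟨_, c, _, ⟨k⟩, -⟩ := hb
  rw [map_zero]
  exact (NatTrans.naturality_apply h.hom b.op s).symm.trans (key k Z c _)

/-- Finite sums of derived complete sheaves. -/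
theorem isDCSheaf_biproduct {I : Ideal Λ} {n : ℕ} (F : Fin n → EtModW.ModP Λ X)
    (hF : ∀ k, ProEtDC.IsDCSheaf Λ I (F k)) : ProEtDC.IsDCSheaf Λ I (⨁ F) := by
  rw [isDCSheaf_iff]
  intro f hf U hU
  let π := fun k => ((secP U).map (biproduct.π F k)).hom
  let ι := fun k => ((secP U).map (biproduct.ι F k)).hom
  have hT := fun k => (isDCSheaf_iff I _).mp (hF k) f hf U hU
  have hsum : ∀ x, ∑ k, ι k (π k x) = x := fun x => by
    have h := congrArg (fun t => ((secP U).map t).hom x) (biproduct.total (f := F))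
    simp only [Functor.map_sum, ModuleCat.hom_sum, LinearMap.sum_apply, CategoryTheory.Functor.map_id] at h
    exact (Finset.sum_congr rfl fun k _ => (secP_comp_apply _ _ _).symm).trans h
  refine ⟨fun x y hxy => funext fun j => ?_, fun y => ?_⟩
  · rw [← hsum (x j), ← hsum (y j)]
    exact Finset.sum_congr rfl fun k _ => congrArg (ι k) (congrFun ((hT k).1 (funext fun i => by
      rw [← tmap_comp (π k) x i, ← tmap_comp (π k) y i, hxy]) :
        (fun i => π k (x i)) = fun i => π k (y i)) j)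
  · choose x hx using fun k => (hT k).2 fun i => π k (y i)
    refine ⟨fun i => ∑ k, ι k (x k i), funext fun i => ?_⟩
    have : tmap f _ (fun i => ∑ k, ι k (x k i)) i = ∑ k, ι k (tmap f _ (x k) i) := by
      simp only [tmap, map_sub, map_smul, Finset.smul_sum, Finset.sum_sub_distrib]
    rw [this]
    simp only [hx]
    exact hsum _

/-- **Derived complete sheaves with finitely presented reduction are quotients of powers of `Λ^∧`.** -/
theorem exists_epi_pow [IsAffine X] [IsNoetherianRing Λ] (hX : EtPBC.IsWContractible ↥(Γ(X, ⊤))) {r : ℕ}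
    (a : Fin r → Λ) (F : EtModW.ModP Λ X) (hF : ProEtDC.IsDCSheaf Λ (Ideal.span (Set.range a)) F)
    (hq : EtModW.IsFPLocConstP Λ (cokernel (ProEtDC.gensMap Λ a F))) :
    ∃ (t : ℕ) (φ : (⨁ fun _ : Fin t => ProEtDC.lambdaHat Λ X (Ideal.span (Set.range a))) ⟶ F), Epi φ := by
  obtain ⟨κ, _, t₀, ht₀⟩ := exists_global_gens hX _ hq
  let eκ := (Fintype.equivFin κ).symm
  have htop : IsAWC (ProEtS.topP X) := ⟨‹IsAffine X›, hX⟩
  choose y hy using fun j => surjective_of_epi (cokernel.π (ProEtDC.gensMap Λ a F)) htop (t₀ (eκ j))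
  let s : Fin (Fintype.card κ) → (cΛ Λ X ⟶ F) := fun j =>
    ((cstAdj (Λ := Λ) (X := X)).homEquiv _ F).symm (ModuleCat.ofHom (LinearMap.toSpanSingleton Λ _ (y j)))
  have hFa : ∀ i, ∀ U : X.ProEt, IsAWC U → TB (a i) ((secP (Λ := Λ) U).obj F) := fun i =>
    (isDCSheaf_iff _ _).mp hF (a i) (Ideal.subset_span ⟨i, rfl⟩)
  choose ψ hψ using fun j => exists_ext a F hFa (s j)
  let φ := biproduct.desc ψ
  refine ⟨_, φ, ?_⟩
  have hC := (isDCSheaf_kernel_cokernel φ (isDCSheaf_biproduct _ fun _ => isDCSheaf_lambdaHat) hF).2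
  let π := cokernel.π φ
  have hπy : ∀ j, ((secP (ProEtS.topP X)).map π).hom (y j) = 0 := fun j => by
    have h1 : s j ≫ π = 0 := by
      rw [← hψ, Category.assoc, show ψ j = biproduct.ι _ j ≫ φ from (biproduct.ι_desc _ _).symm, Category.assoc,
        cokernel.condition, comp_zero, comp_zero]
    have h2 := congrArg (fun k => ((cstAdj (Λ := Λ) (X := X)).homEquiv _ _ k).hom (1 : Λ)) h1
    simp only [s, Adjunction.homEquiv_naturality_right, Equiv.apply_symm_apply] at h2
    refine Eq.trans ?_ (h2.trans ?_)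
    · exact congrArg ((secP (ProEtS.topP X)).map π).hom (one_smul Λ (y j)).symm
    · rw [Adjunction.homEquiv_unit, Functor.map_zero, comp_zero]
      rfl
  suffices IsZero (cokernel φ) from Preadditive.epi_of_cokernel_zero (this.eq_of_tgt _ _)
  refine isZero_of_modGensIsZero a hC ?_
  let qC := cokernel.π (ProEtDC.gensMap Λ a (cokernel φ))
  have hnat : ProEtDC.gensMap Λ a F ≫ π ≫ qC = 0 := by
    refine biproduct.hom_ext' _ _ fun i => ?_
    rw [biproduct.ι_desc_assoc, comp_zero]
    have h1 : ProEtDC.smulHom Λ F (a i) ≫ π = π ≫ ProEtDC.smulHom Λ (cokernel φ) (a i) :=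
      Sheaf.hom_ext (NatTrans.ext (funext fun V => ModuleCat.hom_ext (LinearMap.ext fun x =>
        map_smul (π.hom.app V).hom (a i) x)))
    rw [← Category.assoc, h1, Category.assoc,
      show ProEtDC.smulHom Λ (cokernel φ) (a i) = biproduct.ι (fun _ : Fin r => cokernel φ) i ≫
        ProEtDC.gensMap Λ a (cokernel φ) from
          (biproduct.ι_desc (fun k : Fin r => ProEtDC.smulHom Λ (cokernel φ) (a k)) i).symm,
      Category.assoc, cokernel.condition, comp_zero, comp_zero]
  have hh : cokernel.desc _ _ hnat = 0 := ht₀ _ _ fun k => by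
    obtain ⟨j, rfl⟩ := eκ.surjective k
    rw [← hy, ← secP_comp_apply, cokernel.π_desc, secP_comp_apply, hπy, map_zero]
  have h0 : π ≫ qC = 0 := by rw [← cokernel.π_desc _ _ hnat, hh, comp_zero]
  haveI : Epi π := inferInstance
  exact Preadditive.epi_of_cokernel_zero (show qC = 0 from (cancel_epi π).1 (h0.trans comp_zero.symm))

end Groth.Agent.Et18.DC
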