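import Groth.Agent.Et18.DC.Series

/-!
# The completed constant sheaf as a quotient of a power of the constant sheaf
-/

universe u

open CategoryTheory CategoryTheory.Limits AlgebraicGeometry Opposite ARSys

set_option backward.isDefEq.respectTransparency.types false
set_option backward.isDefEq.respectTransparency false
set_option synthInstance.maxHeartbeats 400000
set_option maxHeartbeats 1000000

namespace Groth.Agent.Et18.DC

open ModEps

variable {Λ : Type (u + 1)} [CommRing Λ] {X : Scheme.{u}}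

instance cstP_additive : (cstP (Λ := Λ) (X := X)).Additive :=
  (cstAdj (Λ := Λ) (X := X)).left_adjoint_additive

/-- The quotient map `Λ → Λ/I^n`. -/
noncomputable def mkQn (I : Ideal Λ) (n : ℕ) : ModuleCat.of Λ Λ ⟶ (ProEtDC.quotTower Λ I).obj (op n) :=
  ModuleCat.ofHom (Submodule.mkQ _)

lemma mkQn_map (I : Ideal Λ) (n : ℕ) :
    mkQn I (n + 1) ≫ (ProEtDC.quotTower Λ I).map (homOfLE n.le_succ).op = mkQn I n :=
  ModuleCat.hom_ext (LinearMap.ext fun _ => rfl)

theorem isQuot_mkQn (I : Ideal Λ) (n : ℕ) : IsQuot (I ^ n) (mkQn I n) := by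
  haveI : Epi (mkQn I n) :=
    (ModuleCat.epi_iff_surjective _).mpr (Submodule.mkQ_surjective _)
  refine ARLib.isQuot_of_epi (fun a ha => ?_) fun Y φ hφ => ?_
  · refine ModuleCat.hom_ext (LinearMap.ext fun x => ?_)
    obtain ⟨y, rfl⟩ := Submodule.mkQ_surjective _ x
    show a • (Submodule.Quotient.mk y : Λ ⧸ (I ^ n • ⊤ : Submodule Λ Λ)) = 0
    rw [← Submodule.Quotient.mk_smul, Submodule.Quotient.mk_eq_zero]
    exact Submodule.smul_mem_smul ha trivial
  · have hle : (I ^ n • ⊤ : Submodule Λ Λ) ≤ LinearMap.ker φ.hom :=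
      Submodule.smul_le.mpr fun a ha x _ => by
        rw [LinearMap.mem_ker, map_smul]
        exact LinearMap.congr_fun (congrArg ModuleCat.Hom.hom (hφ a ha)) x
    refine ModuleCat.hom_ext (LinearMap.ext fun t => ?_)
    have ht : (mkQn I n).hom ((kernel.ι (mkQn I n)).hom t) = 0 :=
      LinearMap.congr_fun (congrArg ModuleCat.Hom.hom (kernel.condition (mkQn I n))) t
    exact LinearMap.mem_ker.mp (hle ((Submodule.Quotient.mk_eq_zero _).mp ht))

variable (Λ X) in
/-- The levels of `Λ^∧`. -/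
noncomputable abbrev hatTower (I : Ideal Λ) : ℕᵒᵖ ⥤ EtModW.ModP Λ X :=
  ProEtDC.quotTower Λ I ⋙ constantSheaf (Scheme.ProEt.topology X) (ModuleCat.{u + 1} Λ)

/-- The quotient maps of `Λ` onto the levels of `Λ^∧`. -/
noncomputable def qLev (I : Ideal Λ) (n : ℕ) : cΛ Λ X ⟶ (hatTower Λ X I).obj (op n) :=
  (cstP (Λ := Λ) (X := X)).map (mkQn I n)

lemma qLev_map (I : Ideal Λ) (n : ℕ) :
    qLev (X := X) I (n + 1) ≫ (hatTower Λ X I).map (homOfLE n.le_succ).op = qLev I n :=
  ((cstP (Λ := Λ) (X := X)).map_comp _ _).symm.trans (congrArg (cstP (Λ := Λ) (X := X)).map (mkQn_map I n))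

theorem isQuot_qLev [IsNoetherianRing Λ] (I : Ideal Λ) (n : ℕ) : IsQuot (I ^ n) (qLev (X := X) I n) :=
  Et18.Mod.isQuot_map _ (IsNoetherian.noetherian _) (isQuot_mkQn I n)

theorem qLev_surjective [IsNoetherianRing Λ] (I : Ideal Λ) (n : ℕ) {U : X.ProEt} (hU : IsAWC U) :
    Function.Surjective ((secP U).map (qLev (X := X) I n)).hom :=
  haveI := ARLib.isQuot_epi (isQuot_qLev (X := X) I n)
  surjective_of_epi _ hU

theorem qLev_eq_zero [IsNoetherianRing Λ] (I : Ideal Λ) (n : ℕ) {U : X.ProEt} (hU : IsAWC U)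
    (x : (secP U).obj (cΛ Λ X)) :
    ((secP U).map (qLev I n)).hom x = 0 ↔ x ∈ I ^ n • (⊤ : Submodule Λ ((secP U).obj (cΛ Λ X))) := by
  rw [← LinearMap.mem_ker, ker_secP_isQuot (IsNoetherian.noetherian _) (isQuot_qLev I n) hU]

/-- The canonical map `Λ → Λ^∧`. -/
noncomputable def hatCan (I : Ideal Λ) : cΛ Λ X ⟶ ProEtDC.lambdaHat Λ X I :=
  limit.lift (hatTower Λ X I)
    { pt := cΛ Λ X
      π := NatTrans.ofOpSequence (fun n => qLev I n) fun n => by
        rw [qLev_map]
        exact Category.id_comp _ }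

lemma hatCan_π (I : Ideal Λ) (n : ℕ) :
    hatCan (X := X) I ≫ limit.π (hatTower Λ X I) (op n) = qLev I n :=
  limit.lift_π _ _

lemma hat_w (I : Ideal Λ) (n : ℕ) :
    limit.π (hatTower Λ X I) (op (n + 1)) ≫ (hatTower Λ X I).map (homOfLE n.le_succ).op =
      limit.π (hatTower Λ X I) (op n) :=
  limit.w _ _

lemma hat_ext {I : Ideal Λ} {U : X.ProEt} {x y : (secP U).obj (ProEtDC.lambdaHat Λ X I)}
    (h : ∀ n : ℕ, ((secP U).map (limit.π (hatTower Λ X I) (op n))).hom x =
      ((secP U).map (limit.π (hatTower Λ X I) (op n))).hom y) : x = y :=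
  Concrete.isLimit_ext _ (isLimitOfPreserves (secP U) (limit.isLimit (hatTower Λ X I))) x y
    fun ⟨n⟩ => h n

section Series

variable {r : ℕ} (a : Fin r → Λ)

lemma mon_mem {α : SK.Idx r} : SK.mon a α ∈ Ideal.span (Set.range a) ^ SK.deg α := by
  rw [SK.mon, SK.deg, ← Finset.prod_pow_eq_pow_sum]
  exact Ideal.prod_mem_prod fun i _ => Ideal.pow_mem_pow (Ideal.subset_span (Set.mem_range_self i)) _

variable (X) in
/-- The powers of `Λ`. -/
noncomputable abbrev powP (r : ℕ) : EtModW.ModP Λ X := ∏ᶜ fun _ : SK.Idx r => cΛ Λ X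

/-- Partial sums. -/
noncomputable def partSum (n : ℕ) : powP (Λ := Λ) X r ⟶ cΛ Λ X :=
  ∑ m ∈ Finset.range n, ∑ α ∈ SK.D r m, SK.mon a α • Pi.π (fun _ : SK.Idx r => cΛ Λ X) α

lemma partSum_apply (n : ℕ) {U : X.ProEt} (x : (secP U).obj (powP (Λ := Λ) X r)) :
    ((secP U).map (partSum (X := X) a n)).hom x =
      ∑ m ∈ Finset.range n, SK.ev a m fun α => ((secP U).map (Pi.π (fun _ : SK.Idx r => cΛ Λ X) α)).hom x := by
  rw [partSum, Functor.map_sum, ModuleCat.hom_sum, LinearMap.sum_apply]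
  refine Finset.sum_congr rfl fun m _ => ?_
  rw [Functor.map_sum, ModuleCat.hom_sum, LinearMap.sum_apply]
  exact Finset.sum_congr rfl fun α _ => rfl

/-- The map of the power of `Λ` onto `Λ^∧`. -/
noncomputable def hatQ [IsNoetherianRing Λ] : powP (Λ := Λ) X r ⟶ ProEtDC.lambdaHat Λ X (Ideal.span (Set.range a)) :=
  limit.lift (hatTower Λ X (Ideal.span (Set.range a)))
    { pt := powP (Λ := Λ) X r
      π := NatTrans.ofOpSequence (fun n => partSum a n ≫ qLev (Ideal.span (Set.range a)) n) fun n => by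
        refine (Category.id_comp _).trans ?_
        rw [Category.assoc, qLev_map, partSum, partSum, Finset.sum_range_succ, Preadditive.add_comp,
          Preadditive.sum_comp (s := SK.D r n)]
        refine ((add_eq_left).mpr (Finset.sum_eq_zero fun α hα => ?_)).symm
        have hmem := mon_mem a (α := α)
        rw [SK.mem_D.mp hα] at hmem
        rw [Linear.smul_comp]
        exact ARLib.homKilledBy_of_target (isQuot_qLev (X := X) (Ideal.span (Set.range a)) n).1 _ _ hmem }

variable [IsNoetherianRing Λ]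

lemma hatQ_π (n : ℕ) :
    hatQ (X := X) a ≫ limit.π (hatTower Λ X (Ideal.span (Set.range a))) (op n) =
      partSum a n ≫ qLev (Ideal.span (Set.range a)) n :=
  limit.lift_π _ _

theorem delta_hatQ : deltaP (cΛ Λ X) (𝟙 (cΛ Λ X)) ≫ hatQ a = hatCan (Ideal.span (Set.range a)) := by
  refine limit.hom_ext fun ⟨n⟩ => ?_
  rw [Category.assoc, hatQ_π, hatCan_π, ← Category.assoc]
  cases n with
  | zero =>
    have h0 : qLev (X := X) (Ideal.span (Set.range a)) 0 = 0 := by
      have := ARLib.homKilledBy_of_target (isQuot_qLev (X := X) (Ideal.span (Set.range a)) 0).1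
        (qLev (X := X) (Ideal.span (Set.range a)) 0) 1 (by simp)
      rwa [one_smul] at this
    rw [h0, comp_zero]
  | succ n =>
    suffices deltaP (cΛ Λ X) (𝟙 (cΛ Λ X)) ≫ partSum a (n + 1) = 𝟙 _ by rw [this, Category.id_comp]
    rw [partSum, Preadditive.comp_sum, Finset.sum_eq_single 0 (fun m _ hm => ?_)
      (fun h => absurd (Finset.mem_range.mpr n.succ_pos) h), Preadditive.comp_sum,
      Finset.sum_eq_single 0 (fun α _ hα => ?_) (fun h => absurd (SK.mem_D.mpr (by simp [SK.deg])) h)]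
    · rw [Linear.comp_smul, deltaP, Pi.lift_π, if_pos rfl, show SK.mon a 0 = (1 : Λ) by simp [SK.mon], one_smul]
    · rw [Linear.comp_smul, deltaP, Pi.lift_π, if_neg hα, smul_zero]
    · rw [Preadditive.comp_sum]
      refine Finset.sum_eq_zero fun α hα => ?_
      have : α ≠ 0 := fun e => hm (by rw [← SK.mem_D.mp hα, e]; simp [SK.deg])
      rw [Linear.comp_smul, deltaP, Pi.lift_π, if_neg this, smul_zero]

theorem epi_hatQ : Epi (hatQ (X := X) a) := by
  refine epi_of_awc _ fun U hU z => ?_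
  let I := Ideal.span (Set.range a)
  let R := (secP (Λ := Λ) U).obj (cΛ Λ X)
  have hlift : ∀ n : ℕ, ∃ d : R, (n = 0 → d = 0) ∧
      ((secP U).map (qLev I n)).hom d = ((secP U).map (limit.π (hatTower Λ X I) (op n))).hom z := fun n => by
    obtain ⟨d, hd⟩ := qLev_surjective I n hU (((secP U).map (limit.π (hatTower Λ X I) (op n))).hom z)
    by_cases hn : n = 0
    · subst hn
      refine ⟨0, fun _ => rfl, ?_⟩
      rw [← hd, map_zero, eq_comm, qLev_eq_zero I 0 hU]
      simp
    · exact ⟨d, fun h => absurd h hn, hd⟩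
  choose d hd0 hd using hlift
  have hdiff : ∀ n, d (n + 1) - d n ∈ I ^ n • (⊤ : Submodule Λ R) := fun n => by
    rw [← qLev_eq_zero I n hU, map_sub, sub_eq_zero, hd n]
    conv_lhs => rw [← qLev_map I n, secP_comp_apply, hd (n + 1), ← secP_comp_apply, hat_w I n]
  choose g hg using fun n => SK.exists_ev_eq (hdiff n)
  obtain ⟨x, hx⟩ := exists_pi_elem (fun _ : SK.Idx r => cΛ Λ X) U fun α => g (SK.deg α) α
  refine ⟨x, hat_ext fun n => ?_⟩
  rw [← secP_comp_apply, hatQ_π, secP_comp_apply, ← hd n, ← sub_eq_zero, ← map_sub, qLev_eq_zero I n hU,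
    partSum_apply]
  have hev : ∀ m, SK.ev a m (fun α => ((secP U).map (Pi.π (fun _ : SK.Idx r => cΛ Λ X) α)).hom x) =
      d (m + 1) - d m := fun m => by
    rw [← hg m, SK.ev, SK.ev]
    exact Finset.sum_congr rfl fun α hα => by rw [hx, SK.mem_D.mp hα]
  rw [Finset.sum_congr rfl (fun m _ => hev m), Finset.sum_range_sub]
  simp [hd0 0 rfl]

theorem exists_ext (F : EtModW.ModP Λ X)
    (hF : ∀ i, ∀ U : X.ProEt, IsAWC U → TB (a i) ((secP (Λ := Λ) U).obj F)) (s : cΛ Λ X ⟶ F) :
    ∃ φ : ProEtDC.lambdaHat Λ X (Ideal.span (Set.range a)) ⟶ F, hatCan (Ideal.span (Set.range a)) ≫ φ = s := by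
  obtain ⟨σ, hσ, hσ0⟩ := exists_sum_op F r a hF
  let m : powP (Λ := Λ) X r ⟶ ∏ᶜ fun _ : SK.Idx r => F := Pi.lift fun α => Pi.π _ α ≫ s
  have hm : ∀ i, shP (cΛ Λ X) i ≫ m = m ≫ shP F i := fun i => Pi.hom_ext _ _ fun α => by
    simp only [m, shP, Category.assoc, Pi.lift_π]
    rw [← Category.assoc, Pi.lift_π]
    split_ifs with h
    · simp
    · rw [Pi.lift_π]
  have hrel : ∀ i, (shP (cΛ Λ X) i - a i • 𝟙 _) ≫ m ≫ σ = 0 := fun i => by
    rw [Preadditive.sub_comp, Linear.smul_comp, Category.id_comp, ← Category.assoc, hm, Category.assoc, hσ i,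
      Linear.comp_smul, sub_self]
  haveI := epi_hatQ (X := X) a
  have hk : kernel.ι (hatQ (X := X) a) ≫ m ≫ σ = 0 := by
    refine hom_ext_awc fun U hU t => ?_
    let R := (secP (Λ := Λ) U).obj (cΛ Λ X)
    let x := ((secP U).map (kernel.ι (hatQ (X := X) a))).hom t
    let y : SK.Idx r → R := fun α => ((secP U).map (Pi.π (fun _ : SK.Idx r => cΛ Λ X) α)).hom x
    have hy : ∀ n, (∑ m ∈ Finset.range n, SK.ev a m y) ∈ Ideal.span (Set.range a) ^ n • (⊤ : Submodule Λ R) :=
      fun n => by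
        rw [← qLev_eq_zero _ n hU, ← partSum_apply, ← secP_comp_apply, ← hatQ_π, secP_comp_apply,
          show ((secP U).map (hatQ a)).hom x = 0 from by
            rw [← secP_comp_apply, kernel.condition, Functor.map_zero]; rfl, map_zero]
    obtain ⟨g, hg⟩ := SK.exists_rel a (flatish_cst hU) y hy
    choose xi hxi using fun i => exists_pi_elem (fun _ : SK.Idx r => cΛ Λ X) U (g i)
    have hx : x = ∑ i, ((secP U).map (shP (cΛ Λ X) i - a i • 𝟙 _)).hom (xi i) := by
      refine pi_elem_ext _ U fun α => ?_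
      show y α = _
      rw [← hg, map_sum]
      refine Finset.sum_congr rfl fun i _ => ?_
      rw [← secP_comp_apply, Preadditive.sub_comp, Linear.smul_comp, Category.id_comp, shP, Pi.lift_π,
        Functor.map_sub, secP_map_smul]
      show SK.sh i (g i) α - a i • g i α = _ - a i • ((secP U).map (Pi.π _ α)).hom (xi i)
      rw [hxi, SK.sh]
      split_ifs with h
      · rw [Functor.map_zero]; rfl
      · rw [hxi]
    rw [secP_comp_apply]
    show ((secP U).map (m ≫ σ)).hom x = _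
    rw [hx, map_sum, Functor.map_zero]
    exact Finset.sum_eq_zero fun i _ => by rw [← secP_comp_apply, hrel, Functor.map_zero]; rfl
  refine ⟨Abelian.epiDesc (hatQ a) (m ≫ σ) hk, ?_⟩
  rw [← delta_hatQ, Category.assoc, Abelian.comp_epiDesc, ← Category.assoc]
  refine (congrArg (fun t => t ≫ σ) (Pi.hom_ext _ _ fun α => ?_ : _ = deltaP F s)).trans (hσ0 _ s)
  simp only [m, deltaP, Category.assoc, Pi.lift_π]
  rw [← Category.assoc, Pi.lift_π]
  split_ifs <;> simp

end Series

end Groth.Agent.Et18.DC
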