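import Groth.Agent.Et18.DC.Crit
import Mathlib.Algebra.Homology.DerivedCategory.FullyFaithful
import Mathlib.CategoryTheory.Triangulated.Yoneda

/-!
# The criterion for derived completeness on the pro-étale site
-/

universe u

open CategoryTheory CategoryTheory.Limits AlgebraicGeometry Opposite HomologicalComplex Pretriangulated

set_option backward.isDefEq.respectTransparency.types false
set_option backward.isDefEq.respectTransparency false
set_option synthInstance.maxHeartbeats 400000
set_option maxHeartbeats 1000000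

attribute [local instance] HasDerivedCategory.standard

namespace Groth.Agent.Et18.DC

open ModEps

variable {Λ : Type (u + 1)} [CommRing Λ] {X : Scheme.{u}}

/-- The criterion. -/
def Crit (f : Λ) (K : ProEtDC.DP Λ X) : Prop :=
  ∀ U : X.ProEt, IsAWC U → ∀ p : ℤ, TB f ((secP (Λ := Λ) U).obj (ProEtDC.HDP K p))

lemma Crit.of_iso {f : Λ} {K K' : ProEtDC.DP Λ X} (e : K ≅ K') (h : Crit f K) : Crit f K' :=
  fun U hU p => (h U hU p).of_iso ((secP U).mapIso ((DerivedCategory.homologyFunctor _ p).mapIso e))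

lemma Crit.complex {f : Λ} {L : CochainComplex (EtModW.ModP Λ X) ℤ} (h : Crit f (DerivedCategory.Q.obj L))
    (U : X.ProEt) (hU : IsAWC U) (p : ℤ) : TB f ((secP (Λ := Λ) U).obj (L.homology p)) :=
  (h U hU p).of_iso ((secP U).mapIso ((DerivedCategory.homologyFunctorFactors _ p).app L))

/-- The cohomology of a shift. -/
noncomputable def hdpShift (K : ProEtDC.DP Λ X) (m p : ℤ) :
    ProEtDC.HDP ((shiftFunctor (ProEtDC.DP Λ X) m).obj K) p ≅ ProEtDC.HDP K (m + p) :=
  (((DerivedCategory.homologyFunctor (EtModW.ModP Λ X) 0).shiftIso m p (m + p) rfl).app K :)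

lemma Crit.shift {f : Λ} {K : ProEtDC.DP Λ X} (h : Crit f K) (m : ℤ) : Crit f ((shiftFunctor _ m).obj K) :=
  fun U hU p => (h U hU (m + p)).of_iso ((secP U).mapIso (hdpShift K m p).symm)

/-- **Sufficiency.** -/
theorem eq_zero_of_crit {f : Λ} {K : ProEtDC.DP Λ X} (h : Crit f K) {Xo : EtModW.ModP Λ X} (c : Xo ⟶ Xo)
    (hc : f • c = 𝟙 Xo) (φ : (DerivedCategory.singleFunctor (EtModW.ModP Λ X) 0).obj Xo ⟶ K) : φ = 0 := by
  let L := DerivedCategory.Q.objPreimage K
  let e : DerivedCategory.Q.obj L ≅ K := DerivedCategory.Q.objObjPreimageIso K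
  let φ' : DerivedCategory.Q.obj ((CochainComplex.singleFunctor (EtModW.ModP Λ X) 0).obj Xo) ⟶
      DerivedCategory.Q.obj L := φ ≫ e.inv
  obtain ⟨L', g, s, hs, he⟩ := DerivedCategory.left_fac φ'
  haveI := hs
  have hg : DerivedCategory.Q.map g = 0 :=
    Q_map_eq_zero c hc (fun U hU p => ((h.of_iso e.symm).of_iso (asIso (DerivedCategory.Q.map s))).complex U hU p) g
  have h0 : φ' = 0 := by rw [he, hg, zero_comp]
  exact (cancel_mono e.inv).mp (h0.trans zero_comp.symm)

/-- The inverse of `f` on `j_!` of the localization. -/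
theorem exists_inv_smul (U : X.ProEt) (f : Λ) :
    ∃ c : ProEtDC.locExt Λ U f ⟶ ProEtDC.locExt Λ U f, f • c = 𝟙 _ := by
  let μ : ModuleCat.of Λ (Localization.Away f) ⟶ ModuleCat.of Λ (Localization.Away f) :=
    ModuleCat.ofHom (LinearMap.mulLeft Λ (IsLocalization.Away.invSelf (S := Localization.Away f) f))
  have hμ : f • μ = 𝟙 _ := ModuleCat.hom_ext (LinearMap.ext fun x => by
    show f • (IsLocalization.Away.invSelf (S := Localization.Away f) f * x) = x
    rw [← smul_mul_assoc, smul_invSelf, one_mul])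
  refine ⟨(jMod U).map μ, ?_⟩
  refine (jMod_map_smul U μ f).symm.trans ?_
  rw [hμ]
  exact (jMod U).map_id _

section Necessity

variable {U : X.ProEt} {f : Λ}

/-- The morphism of sheaves given by a family of sections. -/
noncomputable def famHom {F : EtModW.ModP Λ X} (z : ℕ → (secP (Λ := Λ) U).obj F) : (jMod U).obj (MN Λ) ⟶ F :=
  (jEquiv U (MN Λ) F).symm (ModuleCat.ofHom (Finsupp.linearCombination Λ z))

/-- The family of a morphism. -/
noncomputable def homFam {F : EtModW.ModP Λ X} (g : (jMod U).obj (MN Λ) ⟶ F) : ℕ → (secP (Λ := Λ) U).obj F :=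
  fun k => (jEquiv U (MN Λ) F g).hom (Finsupp.single k (1 : Λ))

lemma homFam_famHom {F : EtModW.ModP Λ X} (z : ℕ → (secP (Λ := Λ) U).obj F) : homFam (famHom z) = z := by
  funext k
  simp only [homFam, famHom, Equiv.apply_symm_apply]
  show Finsupp.linearCombination Λ z (Finsupp.single k 1) = z k
  rw [Finsupp.linearCombination_single, one_smul]

lemma homFam_injective {F : EtModW.ModP Λ X} {g g' : (jMod U).obj (MN Λ) ⟶ F} (h : homFam g = homFam g') : g = g' := by
  apply (jEquiv U (MN Λ) F).injective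
  refine ModuleCat.hom_ext (Finsupp.lhom_ext fun k a => ?_)
  have h1 : (jEquiv U (MN Λ) F g).hom (Finsupp.single k (1 : Λ)) = (jEquiv U (MN Λ) F g').hom (Finsupp.single k (1 : Λ)) :=
    congrFun h k
  have e : Finsupp.single k a = a • Finsupp.single k (1 : Λ) := by simp
  rw [e]
  exact ((map_smul _ _ _).trans (congrArg (fun t => a • t) h1)).trans (map_smul _ _ _).symm

lemma homFam_comp {F G : EtModW.ModP Λ X} (g : (jMod U).obj (MN Λ) ⟶ F) (k : F ⟶ G) :
    homFam (g ≫ k) = fun i => ((secP U).map k).hom (homFam g i) := by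
  funext i
  simp only [homFam, jEquiv_comp]
  rfl

lemma homFam_zero {F : EtModW.ModP Λ X} : homFam (0 : (jMod U).obj (MN Λ) ⟶ F) = 0 := by
  funext i
  rw [← zero_comp (f := (0 : F ⟶ F)), homFam_comp, Functor.map_zero]
  rfl

lemma homFam_psi {F : EtModW.ModP Λ X} (g : (jMod U).obj (MN Λ) ⟶ F) :
    homFam ((jMod U).map (psi0 f) ≫ g) = tmap f _ (homFam g) := by
  funext k
  simp only [homFam, jEquiv_map_comp, tmap]
  show (jEquiv U (MN Λ) F g).hom (psiL f (Finsupp.single k 1)) = _
  rw [psiL_single, mul_one, map_sub, show Finsupp.single (k + 1) f = f • Finsupp.single (k + 1) (1 : Λ) by simp]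
  exact congrArg₂ (· - ·) rfl (map_smul _ _ _)

variable (L : CochainComplex (EtModW.ModP Λ X) ℤ)

local notation "S₀" => CochainComplex.singleFunctor (EtModW.ModP Λ X) 0

/-- The chain map of a family of cocycles. -/
noncomputable def cycMap (z : ℕ → (secP (Λ := Λ) U).obj (L.cycles 0)) : (S₀).obj ((jMod U).obj (MN Λ)) ⟶ L :=
  mkHomFromSingle (famHom z ≫ L.iCycles 0) fun k _ => by rw [Category.assoc, iCycles_d, comp_zero]

lemma cycMap_f (z : ℕ → (secP (Λ := Λ) U).obj (L.cycles 0)) :
    (cycMap L z).f 0 = (singleObjXSelf (ComplexShape.up ℤ) 0 _).hom ≫ famHom z ≫ L.iCycles 0 := by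
  simp [cycMap]

/-- The class of a morphism out of a single complex. -/
noncomputable def clsOf {Q₀ : EtModW.ModP Λ X}
    (φ : DerivedCategory.Q.obj ((S₀).obj Q₀) ⟶ DerivedCategory.Q.obj L) : Q₀ ⟶ L.homology 0 :=
  (singleObjHomologySelfIso (ComplexShape.up ℤ) 0 Q₀).inv ≫
    (DerivedCategory.homologyFunctorFactors _ 0).inv.app _ ≫
      (DerivedCategory.homologyFunctor _ 0).map φ ≫ (DerivedCategory.homologyFunctorFactors _ 0).hom.app L

lemma clsOf_Q {Q₀ : EtModW.ModP Λ X} (g : (S₀).obj Q₀ ⟶ L) :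
    clsOf L (DerivedCategory.Q.map g) = (singleObjHomologySelfIso (ComplexShape.up ℤ) 0 Q₀).inv ≫ homologyMap g 0 := by
  refine congrArg (fun t => (singleObjHomologySelfIso (ComplexShape.up ℤ) 0 Q₀).inv ≫ t) ?_
  refine (congrArg (fun t => (DerivedCategory.homologyFunctorFactors _ 0).inv.app _ ≫ t)
    ((DerivedCategory.homologyFunctorFactors _ 0).hom.naturality g)).trans ?_
  exact Iso.inv_hom_id_app_assoc _ _ _

lemma clsOf_comp {Q₀ Q₁ : EtModW.ModP Λ X} (a : Q₀ ⟶ Q₁)
    (φ : DerivedCategory.Q.obj ((S₀).obj Q₁) ⟶ DerivedCategory.Q.obj L) :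
    clsOf L (DerivedCategory.Q.map ((S₀).map a) ≫ φ) = a ≫ clsOf L φ := by
  have h1 : a ≫ (singleObjHomologySelfIso (ComplexShape.up ℤ) 0 Q₁).inv =
      (singleObjHomologySelfIso (ComplexShape.up ℤ) 0 Q₀).inv ≫ homologyMap ((S₀).map a) 0 :=
    (singleObjHomologySelfIso_inv_naturality (ComplexShape.up ℤ) 0 a).symm
  unfold clsOf
  rw [reassoc_of% h1]
  refine congrArg (fun t => (singleObjHomologySelfIso (ComplexShape.up ℤ) 0 Q₀).inv ≫ t) ?_
  rw [Functor.map_comp, Category.assoc]
  exact ((DerivedCategory.homologyFunctorFactors _ 0).inv.naturality_assoc ((S₀).map a) _).symm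

lemma homFam_clsOf_cycMap (z : ℕ → (secP (Λ := Λ) U).obj (L.cycles 0)) :
    homFam (clsOf L (DerivedCategory.Q.map (cycMap L z))) = fun k => ((secP U).map (L.homologyπ 0)).hom (z k) := by
  have h1 : (singleObjCyclesSelfIso (ComplexShape.up ℤ) 0 _).inv ≫ cyclesMap (cycMap L z) 0 = famHom z := by
    rw [← cancel_mono (L.iCycles 0), Category.assoc, cyclesMap_i, cycMap_f]
    refine (reassoc_of% (singleObjCyclesSelfIso_inv_iCycles (ComplexShape.up ℤ) 0 ((jMod U).obj (MN Λ)))) _ |>.trans ?_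
    exact (Category.assoc _ _ _).symm.trans ((congrArg (fun t => t ≫ famHom z ≫ L.iCycles 0) (Iso.inv_hom_id _)).trans (Category.id_comp _))
  rw [clsOf_Q, ← singleObjCyclesSelfIso_inv_homologyπ, Category.assoc]
  erw [homologyπ_naturality]
  rw [← Category.assoc]
  erw [h1]
  rw [homFam_comp, homFam_famHom]

/-- A family of coboundaries gives zero in the derived category. -/
theorem Q_cycMap_eq_zero (hU : IsAWC U) (z : ℕ → (secP (Λ := Λ) U).obj (L.cycles 0))
    (hz : ∀ k, ((secP U).map (L.homologyπ 0)).hom (z k) = 0) : DerivedCategory.Q.map (cycMap L z) = 0 := by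
  choose w hw using fun k => exists_boundary L hU 0 (z k) (hz k)
  have hwz : famHom w ≫ L.toCycles (0 - 1) 0 = famHom z := homFam_injective (by
    rw [homFam_comp, homFam_famHom, homFam_famHom]
    exact funext hw)
  let h : ∀ i j, (ComplexShape.up ℤ).Rel j i → (((S₀).obj ((jMod U).obj (MN Λ))).X i ⟶ L.X j) := fun i j _ =>
    if a : i = 0 ∧ j = 0 - 1 then
      (singleObjXIsoOfEq _ 0 _ i a.1).hom ≫ famHom w ≫ (L.XIsoOfEq a.2).inv
    else 0
  have e : cycMap L z = Homotopy.nullHomotopicMap' h := by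
    refine from_single_hom_ext ?_
    rw [Homotopy.nullHomotopicMap'_f (show (ComplexShape.up ℤ).Rel (0 - 1) 0 by simp)
      (show (ComplexShape.up ℤ).Rel 0 1 by simp), cycMap_f, ← hwz]
    simp [h]
    rfl
  rw [DerivedCategory.Q_map_eq_of_homotopy _ ((Homotopy.ofEq e).trans (Homotopy.nullHomotopy' h)), Functor.map_zero]

/-- **Necessity**, in degree zero. -/
theorem tb_zero (hU : IsAWC U)
    (h0 : ∀ φ : DerivedCategory.Q.obj ((S₀).obj (ProEtDC.locExt Λ U f)) ⟶ DerivedCategory.Q.obj L, φ = 0)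
    (h1 : ∀ φ : DerivedCategory.Q.obj ((S₀).obj (ProEtDC.locExt Λ U f)) ⟶
      (shiftFunctor (ProEtDC.DP Λ X) (1 : ℤ)).obj (DerivedCategory.Q.obj L), φ = 0) :
    TB f ((secP (Λ := Λ) U).obj (L.homology 0)) := by
  have hS : (((telSC f).map (jMod U)).map (HomologicalComplex.single (EtModW.ModP Λ X) (ComplexShape.up ℤ) 0)).ShortExact :=
    (shortExact_telSC f U).map_of_exact _
  let T := DerivedCategory.triangleOfSES hS
  have hT : T ∈ distTriang _ := DerivedCategory.triangleOfSES_distinguished hS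
  let ψ := DerivedCategory.Q.map ((S₀).map ((jMod U).map (psi0 f)))
  constructor
  · suffices key : ∀ x, tmap f _ x = 0 → x = 0 by
      intro x y hxy
      refine sub_eq_zero.mp (key (x - y) (funext fun k => ?_))
      have := congrFun hxy k
      simp only [tmap, Pi.sub_apply, smul_sub, Pi.zero_apply] at this ⊢
      rw [sub_sub_sub_comm, this, sub_self]
    intro x hx
    choose z hz using fun k => surjective_homologyπ L hU 0 (x k)
    have hψ : ψ ≫ DerivedCategory.Q.map (cycMap L z) = 0 := by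
      have hcomp : (S₀).map ((jMod U).map (psi0 f)) ≫ cycMap L z = cycMap L (tmap f _ z) := by
        refine from_single_hom_ext ?_
        rw [comp_f, cycMap_f, cycMap_f, show famHom (tmap f _ z) = (jMod U).map (psi0 f) ≫ famHom z from
          homFam_injective (by rw [homFam_famHom, homFam_psi, homFam_famHom])]
        show ((single _ (ComplexShape.up ℤ) 0).map _).f 0 ≫ _ = _
        rw [single_map_f_self]
        simp
      refine (DerivedCategory.Q.map_comp _ _).symm.trans ((congrArg _ hcomp).trans ?_)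
      refine Q_cycMap_eq_zero L hU _ fun k => ?_
      rw [tmap_comp]
      show tmap f _ (fun i => ((secP U).map (L.homologyπ 0)).hom (z i)) k = 0
      rw [show (fun i => ((secP U).map (L.homologyπ 0)).hom (z i)) = x from funext hz, hx]
      rfl
    obtain ⟨g, hg⟩ := Triangle.yoneda_exact₂ T hT (DerivedCategory.Q.map (cycMap L z)) hψ
    have h2 : DerivedCategory.Q.map (cycMap L z) = 0 := hg.trans (by rw [h0 g]; exact comp_zero)
    have h3 := homFam_clsOf_cycMap L z
    rw [h2] at h3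
    funext k
    rw [← hz k, ← congrFun h3 k]
    unfold clsOf
    rw [Functor.map_zero, zero_comp, comp_zero, comp_zero, homFam_zero]
  · intro y
    choose z hz using fun k => surjective_homologyπ L hU 0 (y k)
    let φ := DerivedCategory.Q.map (cycMap L z)
    obtain ⟨g, hg⟩ := Triangle.yoneda_exact₂ T.rotate.rotate
      (rot_of_distTriang _ (rot_of_distTriang _ hT)) (φ⟦(1 : ℤ)⟧') (h1 _)
    obtain ⟨g', rfl⟩ := (shiftFunctor (ProEtDC.DP Λ X) (1 : ℤ)).map_surjective g
    have hφ : φ = ψ ≫ (-g') := (shiftFunctor (ProEtDC.DP Λ X) (1 : ℤ)).map_injective (by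
      rw [Functor.map_comp, Functor.map_neg, Preadditive.comp_neg]
      exact hg.trans (Preadditive.neg_comp _ _))
    refine ⟨homFam (clsOf L (-g')), ?_⟩
    rw [← homFam_psi, ← clsOf_comp, ← hφ, homFam_clsOf_cycMap]
    exact funext hz

end Necessity

/-- **Necessity.** -/
theorem crit_of_forall {f : Λ} {K : ProEtDC.DP Λ X}
    (h : ∀ (U : X.ProEt) (m : ℤ), IsAWC U →
      ∀ φ : (DerivedCategory.singleFunctor (EtModW.ModP Λ X) 0).obj (ProEtDC.locExt Λ U f) ⟶
        (shiftFunctor (ProEtDC.DP Λ X) m).obj K, φ = 0) : Crit f K := by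
  intro U hU p
  let K' := (shiftFunctor (ProEtDC.DP Λ X) p).obj K
  let L := DerivedCategory.Q.objPreimage K'
  let e : DerivedCategory.Q.obj L ≅ K' := DerivedCategory.Q.objObjPreimageIso K'
  have h' : TB f ((secP (Λ := Λ) U).obj (L.homology 0)) := by
    refine tb_zero L hU (fun φ => ?_) fun φ => ?_
    · exact (cancel_mono e.hom).mp ((h U p hU (φ ≫ e.hom)).trans zero_comp.symm)
    · let e₁ := (shiftFunctor (ProEtDC.DP Λ X) (1 : ℤ)).mapIso e ≪≫
        ((shiftFunctorAdd' (ProEtDC.DP Λ X) p 1 (p + 1) rfl).app K).symm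
      exact (cancel_mono e₁.hom).mp ((h U (p + 1) hU (φ ≫ e₁.hom)).trans zero_comp.symm)
  refine h'.of_iso ((secP U).mapIso (?_ : L.homology 0 ≅ ProEtDC.HDP K p))
  exact ((DerivedCategory.homologyFunctorFactors _ 0).app L).symm ≪≫
    (DerivedCategory.homologyFunctor _ 0).mapIso e ≪≫ hdpShift K p 0 ≪≫ eqToIso (by rw [add_zero])

/-- Derived completeness of objects. -/
theorem isDC_iff (I : Ideal Λ) (K : ProEtDC.DP Λ X) : ProEtDC.IsDC Λ I K ↔ ∀ f ∈ I, Crit f K := by
  refine ⟨fun h f hf => crit_of_forall fun U m _ φ => @Subsingleton.elim _ (h U f hf m) φ 0,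
    fun h U f hf m => ⟨fun a b => ?_⟩⟩
  obtain ⟨c, hc⟩ := exists_inv_smul U f
  rw [eq_zero_of_crit ((h f hf).shift m) c hc a, eq_zero_of_crit ((h f hf).shift m) c hc b]

/-- The criterion for a single sheaf. -/
theorem crit_single_iff {f : Λ} (F : EtModW.ModP Λ X) :
    Crit f ((DerivedCategory.singleFunctor (EtModW.ModP Λ X) 0).obj F) ↔
      ∀ U : X.ProEt, IsAWC U → TB f ((secP (Λ := Λ) U).obj F) := by
  let e : ProEtDC.HDP ((DerivedCategory.singleFunctor (EtModW.ModP Λ X) 0).obj F) 0 ≅ F :=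
    (DerivedCategory.singleFunctorCompHomologyFunctorIso (EtModW.ModP Λ X) 0).app F
  refine ⟨fun h U hU => (h U hU 0).of_iso ((secP U).mapIso e), fun h U hU p => ?_⟩
  rcases eq_or_ne p 0 with rfl | hp
  · exact (h U hU).of_iso ((secP U).mapIso e.symm)
  · have hz : IsZero (ProEtDC.HDP ((DerivedCategory.singleFunctor (EtModW.ModP Λ X) 0).obj F) p) :=
      (isZero_single_obj_homology (ComplexShape.up ℤ) 0 F p hp).of_iso
        ((DerivedCategory.homologyFunctorFactors _ p).app ((CochainComplex.singleFunctor _ 0).obj F))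
    haveI := ModuleCat.subsingleton_of_isZero ((secP (Λ := Λ) U).map_isZero hz)
    exact ⟨Function.injective_of_subsingleton _, fun y => ⟨y, Subsingleton.elim _ _⟩⟩

/-- Derived completeness of sheaves. -/
theorem isDCSheaf_iff (I : Ideal Λ) (F : EtModW.ModP Λ X) :
    ProEtDC.IsDCSheaf Λ I F ↔ ∀ f ∈ I, ∀ U : X.ProEt, IsAWC U → TB f ((secP (Λ := Λ) U).obj F) := by
  constructor
  · intro h f hf U hU
    let L := (CochainComplex.singleFunctor (EtModW.ModP Λ X) 0).obj F
    have hs : ∀ n : ℕ, ∀ φ : DerivedCategory.Q.obj ((CochainComplex.singleFunctor (EtModW.ModP Λ X) 0).obj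
        (ProEtDC.locExt Λ U f)) ⟶ (shiftFunctor (ProEtDC.DP Λ X) (n : ℤ)).obj (DerivedCategory.Q.obj L), φ = 0 :=
      fun n φ => by
        haveI := h U f hf n
        exact (Abelian.Ext.homEquiv (X := ProEtDC.locExt Λ U f) (Y := F) (n := n)).symm.injective (Subsingleton.elim _ _)
    refine (tb_zero L hU (fun φ => ?_) (hs 1)).of_iso ((secP U).mapIso (singleObjHomologySelfIso _ 0 F))
    let e₀ := (shiftFunctorZero (ProEtDC.DP Λ X) ℤ).symm.app (DerivedCategory.Q.obj L)
    exact (cancel_mono e₀.hom).mp ((hs 0 (φ ≫ e₀.hom)).trans zero_comp.symm)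
  · intro h U f hf n
    obtain ⟨c, hc⟩ := exists_inv_smul U f
    refine ⟨fun a b => (Abelian.Ext.homEquiv).injective ?_⟩
    have hK := ((crit_single_iff F).mpr (h f hf)).shift (n : ℤ)
    exact (eq_zero_of_crit hK c hc (Abelian.Ext.homEquiv a)).trans (eq_zero_of_crit hK c hc (Abelian.Ext.homEquiv b)).symm

end Groth.Agent.Et18.DC
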