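import Mathlib.RingTheory.MvPolynomial.Homogeneous
import Mathlib.RingTheory.Noetherian.Basic
import Mathlib.RingTheory.Polynomial.Basic
import Mathlib.Algebra.Order.Antidiag.Pi
import Mathlib.RingTheory.Ideal.Operations

/-!
# Formal series vanishing in the completion

If a family `y` indexed by exponents has partial sums `∑_{|α|<n} a^α y_α` in `I^n R`, it is a combination of
the relations `(shift g) - a_i g`, provided `R` satisfies the equational criterion of flatness.
-/

universe w v

open MvPolynomial

namespace Groth.Agent.Et18.DC.SK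

variable {Λ : Type w} [CommRing Λ] {r : ℕ} (a : Fin r → Λ) {R : Type v} [AddCommGroup R] [Module Λ R]

/-- Exponents. -/
abbrev Idx (r : ℕ) : Type := Fin r → ℕ

/-- The degree. -/
def deg (α : Idx r) : ℕ := ∑ i, α i

/-- The exponents of degree `n`. -/
def D (r n : ℕ) : Finset (Idx r) := Finset.univ.piAntidiag n

lemma mem_D {n : ℕ} {α : Idx r} : α ∈ D r n ↔ deg α = n := by
  simp [D, deg, Finset.mem_piAntidiag]

/-- The monomial `a^α`. -/
def mon (α : Idx r) : Λ := ∏ i, a i ^ α i

lemma mon_add_single (α : Idx r) (i : Fin r) : mon a (α + Pi.single i 1) = a i * mon a α := by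
  simp only [mon, Pi.add_apply, pow_add, Finset.prod_mul_distrib]
  rw [mul_comm]
  congr 1
  simp [Pi.single_apply, pow_ite]

lemma deg_add_single (α : Idx r) (i : Fin r) : deg (α + Pi.single i 1) = deg α + 1 := by
  simp [deg, Finset.sum_add_distrib]

/-- Lower an exponent. -/
def low (i : Fin r) (α : Idx r) : Idx r := Function.update α i (α i - 1)

lemma low_add_single (i : Fin r) (α : Idx r) : low i (α + Pi.single i 1) = α := by
  funext j
  by_cases h : j = i
  · subst h; simp [low]
  · simp [low, Function.update_of_ne h, h]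

lemma add_single_low {i : Fin r} {α : Idx r} (h : α i ≠ 0) : low i α + Pi.single i 1 = α := by
  funext j
  by_cases hj : j = i
  · subst hj; simp [low]; omega
  · simp [low, Function.update_of_ne hj, hj]

lemma deg_low {i : Fin r} {α : Idx r} (h : α i ≠ 0) : deg (low i α) + 1 = deg α := by
  conv_rhs => rw [← add_single_low h]
  rw [deg_add_single]

/-- The shift. -/
def sh (i : Fin r) (g : Idx r → R) (α : Idx r) : R := if α i = 0 then 0 else g (low i α)

/-- The relation attached to a family of series. -/
def rel (g : Fin r → Idx r → R) (α : Idx r) : R := ∑ i, (sh i (g i) α - a i • g i α)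

lemma rel_add (g g' : Fin r → Idx r → R) : rel a (g + g') = rel a g + rel a g' := by
  funext α
  simp only [rel, Pi.add_apply, ← Finset.sum_add_distrib]
  refine Finset.sum_congr rfl fun i _ => ?_
  by_cases h : α i = 0 <;> simp [sh, h, smul_add] <;> abel

lemma rel_neg (g : Fin r → Idx r → R) : rel a (-g) = -rel a g := by
  funext α
  simp only [rel, Pi.neg_apply, ← Finset.sum_neg_distrib]
  refine Finset.sum_congr rfl fun i _ => ?_
  by_cases h : α i = 0 <;> simp [sh, h] <;> abel

/-- Evaluation in degree `n`. -/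
def ev (n : ℕ) (g : Idx r → R) : R := ∑ α ∈ D r n, mon a α • g α

lemma ev_sh (n : ℕ) (i : Fin r) (g : Idx r → R) : ev a (n + 1) (sh i g) = a i • ev a n g := by
  rw [ev, ← Finset.sum_filter_of_ne (p := fun α : Idx r => α i ≠ 0) (fun α _ h h0 => h (by simp [sh, h0])), ev,
    Finset.smul_sum]
  refine Finset.sum_bij' (fun α _ => low i α) (fun α _ => α + Pi.single i 1) ?_ ?_ ?_ ?_ ?_
  · intro α hα
    obtain ⟨h1, h2⟩ := Finset.mem_filter.mp hα
    have := deg_low h2
    exact mem_D.mpr (by have := mem_D.mp h1; omega)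
  · intro α hα
    exact Finset.mem_filter.mpr ⟨mem_D.mpr (by rw [deg_add_single, mem_D.mp hα]), by simp⟩
  · exact fun α hα => add_single_low (Finset.mem_filter.mp hα).2
  · exact fun α _ => low_add_single i α
  · intro α hα
    have h2 := (Finset.mem_filter.mp hα).2
    simp only [sh, if_neg h2]
    conv_lhs => rw [← add_single_low h2, mon_add_single, mul_smul]
    rw [low_add_single]

variable {a}

lemma exists_ev_eq {n : ℕ} {x : R} (hx : x ∈ Ideal.span (Set.range a) ^ n • (⊤ : Submodule Λ R)) :
    ∃ g : Idx r → R, ev a n g = x := by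
  induction n generalizing x with
  | zero =>
    refine ⟨fun _ => x, ?_⟩
    have : D r 0 = {0} := by
      ext α
      simp [mem_D, deg, funext_iff]
    simp [ev, this, mon]
  | succ n ih =>
    rw [pow_succ', mul_smul] at hx
    refine Submodule.smul_induction_on hx (fun b hb y hy => ?_) fun p q hp hq => ?_
    · obtain ⟨g, rfl⟩ := ih hy
      obtain ⟨c, rfl⟩ := (Submodule.mem_span_range_iff_exists_fun Λ).mp hb
      refine ⟨fun α => ∑ i, c i • sh i g α, ?_⟩
      have h1 : ev a (n + 1) (fun α => ∑ i, c i • sh i g α) = ∑ i, c i • ev a (n + 1) (sh i g) := by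
        simp only [ev, Finset.smul_sum]
        rw [Finset.sum_comm]
        exact Finset.sum_congr rfl fun i _ => Finset.sum_congr rfl fun α _ => smul_comm (mon a α) (c i) _
      rw [h1, Finset.sum_smul]
      exact Finset.sum_congr rfl fun i _ => by rw [ev_sh, smul_smul, smul_eq_mul]
    · obtain ⟨g, rfl⟩ := hp
      obtain ⟨g', rfl⟩ := hq
      exact ⟨g + g', by simp [ev, smul_add, Finset.sum_add_distrib]⟩

section Poly

lemma mem_span_sub (p : MvPolynomial (Fin r) Λ) :
    p - C (eval a p) ∈ Ideal.span (Set.range fun i => X i - C (a i)) := by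
  induction p using MvPolynomial.induction_on with
  | C c => simp
  | add p q hp hq =>
    rw [map_add, C_add, add_sub_add_comm]
    exact add_mem hp hq
  | mul_X p i hp =>
    have : p * X i - C (eval a (p * X i)) = (p - C (eval a p)) * X i + C (eval a p) * (X i - C (a i)) := by
      rw [map_mul, eval_X, C_mul]
      ring
    rw [this]
    exact add_mem (Ideal.mul_mem_right _ _ hp) (Ideal.mul_mem_left _ _ (Ideal.subset_span ⟨i, rfl⟩))

lemma component_mul {d : ℕ} {ρ : MvPolynomial (Fin r) Λ} (hρ : ρ.IsHomogeneous d) (h : MvPolynomial (Fin r) Λ)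
    (n : ℕ) : homogeneousComponent n (h * ρ) = (if d ≤ n then homogeneousComponent (n - d) h else 0) * ρ := by
  have hterm : ∀ j, homogeneousComponent n (homogeneousComponent j h * ρ) =
      if n = j + d then homogeneousComponent j h * ρ else 0 := fun j =>
    homogeneousComponent_of_mem ((homogeneousComponent_isHomogeneous j h).mul hρ)
  conv_lhs => rw [← sum_homogeneousComponent h, Finset.sum_mul, map_sum]
  simp only [hterm]
  split_ifs with hdn
  · rw [Finset.sum_eq_single (n - d) (fun j _ hj => if_neg (by omega)) (fun hn => ?_), if_pos (by omega)]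
    rw [if_pos (by omega), homogeneousComponent_eq_zero (n - d) h (by simp only [Finset.mem_range] at hn; omega),
      zero_mul]
  · rw [zero_mul]
    exact Finset.sum_eq_zero fun j _ => if_neg (by omega)

variable (a) in
/-- The homogeneous relations. -/
def homRel : Set (MvPolynomial (Fin r) Λ) := {p | ∃ n, p.IsHomogeneous n ∧ eval a p = 0}

theorem exists_bound [IsNoetherianRing Λ] :
    ∃ c : ℕ, ∀ (n : ℕ) (p : MvPolynomial (Fin r) Λ), p.IsHomogeneous n → eval a p = 0 →
      ∃ G : Fin r → MvPolynomial (Fin r) Λ, p = ∑ i, (X i - C (a i)) * G i ∧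
        ∀ i e, e.degree + c < n → coeff e (G i) = 0 := by
  obtain ⟨T, hT, hspan⟩ := Submodule.fg_span_iff_fg_span_finset_subset _ |>.mp
    (IsNoetherian.noetherian (Submodule.span (MvPolynomial (Fin r) Λ) (homRel a)))
  choose d hd using fun ρ : T => hT ρ.2
  choose G hG using fun ρ : T => (Submodule.mem_span_range_iff_exists_fun (MvPolynomial (Fin r) Λ)).mp
    (show (ρ : MvPolynomial (Fin r) Λ) ∈ Ideal.span (Set.range fun i => X i - C (a i)) by
      have := mem_span_sub (a := a) (ρ : MvPolynomial (Fin r) Λ)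
      rwa [(hd ρ).2, map_zero, sub_zero] at this)
  refine ⟨Finset.univ.sup d, fun n p hp hp0 => ?_⟩
  have hmem : p ∈ Submodule.span (MvPolynomial (Fin r) Λ) (T : Set (MvPolynomial (Fin r) Λ)) :=
    hspan ▸ Submodule.subset_span ⟨n, hp, hp0⟩
  rw [show (T : Set (MvPolynomial (Fin r) Λ)) = Set.range ((↑) : T → MvPolynomial (Fin r) Λ) from
    Subtype.range_coe_subtype.symm] at hmem
  obtain ⟨h, hh⟩ := (Submodule.mem_span_range_iff_exists_fun _).mp hmem
  let h' : T → MvPolynomial (Fin r) Λ := fun ρ => if d ρ ≤ n then homogeneousComponent (n - d ρ) (h ρ) else 0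
  refine ⟨fun i => ∑ ρ, h' ρ * G ρ i, ?_, fun i e he => ?_⟩
  · have hp' : p = ∑ ρ, h' ρ * (ρ : MvPolynomial (Fin r) Λ) := by
      conv_lhs => rw [← homogeneousComponent_eq_self hp, ← hh]
      rw [map_sum]
      refine Finset.sum_congr rfl fun ρ _ => ?_
      simp only [smul_eq_mul, h']
      exact component_mul (hd ρ).1 _ n
    simp only [hp', Finset.mul_sum]
    rw [Finset.sum_comm]
    refine Finset.sum_congr rfl fun ρ _ => ?_
    rw [← hG ρ, Finset.mul_sum]
    exact Finset.sum_congr rfl fun i _ => by rw [smul_eq_mul]; ring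
  · rw [coeff_sum]
    refine Finset.sum_eq_zero fun ρ _ => ?_
    have hdρ : d ρ ≤ Finset.univ.sup d := Finset.le_sup (Finset.mem_univ ρ)
    simp only [h']
    split_ifs with hdn
    · rw [coeff_mul]
      refine Finset.sum_eq_zero fun x hx => ?_
      rw [Finset.HasAntidiagonal.mem_antidiagonal] at hx
      have : x.1.degree + x.2.degree = e.degree := by rw [← map_add, hx]
      rw [(homogeneousComponent_isHomogeneous (n - d ρ) (h ρ)).coeff_eq_zero (by omega), zero_mul]
    · rw [zero_mul, coeff_zero]

end Poly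

variable (a)

/-- The equational criterion of flatness. -/
def Flatish (Λ : Type w) [CommRing Λ] (R : Type v) [AddCommGroup R] [Module Λ R] : Prop :=
  ∀ (ι : Type) [Fintype ι] (c : ι → Λ) (e : ι → R), (∑ b, c b • e b) = 0 →
    ∃ (N : ℕ) (k : Fin N → ι → Λ) (x : Fin N → R), (∀ l, ∑ b, c b * k l b = 0) ∧ ∀ b, e b = ∑ l, k l b • x l

theorem exists_rel_of_homogeneous [IsNoetherianRing Λ] (hR : Flatish Λ R) :
    ∃ c : ℕ, ∀ (n : ℕ) (z : Idx r → R), (∀ α, deg α ≠ n → z α = 0) → ev a n z = 0 →
      ∃ g : Fin r → Idx r → R, (∀ i α, deg α + c < n → g i α = 0) ∧ rel a g = z := by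
  obtain ⟨c, hc⟩ := exists_bound (a := a)
  refine ⟨c, fun n z hz hev => ?_⟩
  obtain ⟨N, k, x, hk, hzx⟩ := hR (D r n) (fun b => mon a b.1) (fun b => z b.1) (by
    rw [Finset.univ_eq_attach, Finset.sum_attach (D r n) fun b => mon a b • z b]
    exact hev)
  let p : Fin N → MvPolynomial (Fin r) Λ := fun l =>
    ∑ b : D r n, monomial (Finsupp.equivFunOnFinite.symm b.1) (k l b)
  have hdeg : ∀ α : Idx r, (Finsupp.equivFunOnFinite.symm α).degree = deg α := fun α => by
    rw [Finsupp.degree_eq_sum]
    simp [deg]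
  have hp : ∀ l, (p l).IsHomogeneous n := fun l =>
    IsHomogeneous.sum _ _ _ fun b _ => isHomogeneous_monomial _ ((hdeg b.1).trans (mem_D.mp b.2))
  have hp0 : ∀ l, eval a (p l) = 0 := fun l => by
    rw [map_sum, ← hk l]
    refine Finset.sum_congr rfl fun b _ => ?_
    rw [eval_monomial, Finsupp.prod_fintype _ _ (fun i => pow_zero _), mul_comm]
    simp [mon]
  choose G hG hG0 using fun l => hc n (p l) (hp l) (hp0 l)
  refine ⟨fun i α => ∑ l, coeff (Finsupp.equivFunOnFinite.symm α) (G l i) • x l, fun i α hα =>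
    Finset.sum_eq_zero fun l _ => by rw [hG0 l i _ (by rw [hdeg]; exact hα), zero_smul], funext fun α => ?_⟩
  have hco : ∀ l, coeff (Finsupp.equivFunOnFinite.symm α) (p l) =
      if h : α ∈ D r n then k l ⟨α, h⟩ else 0 := fun l => by
    rw [coeff_sum]
    simp only [coeff_monomial, EmbeddingLike.apply_eq_iff_eq]
    split_ifs with h
    · rw [Finset.sum_eq_single ⟨α, h⟩ (fun b _ hb => if_neg fun e => hb (Subtype.ext e))
        (fun hn => absurd (Finset.mem_univ _) hn), if_pos rfl]
    · exact Finset.sum_eq_zero fun b _ => if_neg fun e : b.1 = α => h (e ▸ b.2)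
  have hz' : z α = ∑ l, coeff (Finsupp.equivFunOnFinite.symm α) (p l) • x l := by
    simp only [hco]
    split_ifs with h
    · exact hzx ⟨α, h⟩
    · rw [hz α fun e => h (mem_D.mpr e)]
      simp
  rw [hz']
  simp only [hG, coeff_sum, sub_mul, coeff_sub, coeff_C_mul, coeff_X_mul', rel, Finset.sum_smul, sub_smul]
  rw [Finset.sum_comm]
  refine Finset.sum_congr rfl fun i _ => ?_
  rw [Finset.sum_sub_distrib, Finset.smul_sum]
  congr 1
  · have hlow : Finsupp.equivFunOnFinite.symm α - Finsupp.single i 1 = Finsupp.equivFunOnFinite.symm (low i α) := by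
      ext j
      by_cases hj : j = i
      · subst hj; simp [low]
      · simp [low, Function.update_of_ne hj, hj]
    by_cases h : α i = 0
    · simp [sh, h, Finsupp.mem_support_iff]
    · simp [sh, h, Finsupp.mem_support_iff, hlow]
  · exact Finset.sum_congr rfl fun l _ => (mul_smul _ _ _).symm

/-- **Series with all partial sums small are relations.** -/
theorem exists_rel [IsNoetherianRing Λ] (hR : Flatish Λ R) (y : Idx r → R)
    (hy : ∀ n, (∑ m ∈ Finset.range n, ev a m y) ∈ Ideal.span (Set.range a) ^ n • (⊤ : Submodule Λ R)) :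
    ∃ g : Fin r → Idx r → R, rel a g = y := by
  classical
  obtain ⟨c, hc⟩ := exists_rel_of_homogeneous a hR
  let v := fun n => ∑ m ∈ Finset.range n, ev a m y
  have hv : ∀ n, ∃ g' : Fin r → Idx r → R, ∑ i, a i • ev a n (g' i) = v (n + 1) := fun n => by
    have h1 := hy (n + 1)
    rw [pow_succ', mul_smul] at h1
    suffices key : ∀ x ∈ Ideal.span (Set.range a) • (Ideal.span (Set.range a) ^ n • (⊤ : Submodule Λ R)),
        ∃ g' : Fin r → Idx r → R, ∑ i, a i • ev a n (g' i) = x from key _ h1
    intro x₀ hx₀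
    refine Submodule.smul_induction_on hx₀ (fun b hb x hx => ?_) fun p q hp hq => ?_
    · obtain ⟨g, rfl⟩ := exists_ev_eq hx
      obtain ⟨d, rfl⟩ := (Submodule.mem_span_range_iff_exists_fun Λ).mp hb
      refine ⟨fun i => d i • g, ?_⟩
      have h2 : ∀ i, ev a n (d i • g) = d i • ev a n g := fun i => by
        simp only [ev, Pi.smul_apply, Finset.smul_sum]
        exact Finset.sum_congr rfl fun α _ => smul_comm _ _ _
      rw [Finset.sum_smul]
      exact Finset.sum_congr rfl fun i _ => by rw [h2, smul_smul, smul_eq_mul, mul_comm]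
    · obtain ⟨g, hg⟩ := hp
      obtain ⟨g₂, hg₂⟩ := hq
      exact ⟨g + g₂, by
        simp only [Pi.add_apply, ev, smul_add, Finset.sum_add_distrib, ← hg, ← hg₂]⟩
  choose g' hg' using hv
  let res : ℕ → Idx r → R := fun n α => if deg α = n then y α + ∑ i, (sh i (g' (deg α - 1) i) α - a i • g' n i α) else 0
  have hres : ∀ n, ev a n (res n) = 0 := by
    intro n
    have h0 : ev a n (res n) = ev a n y + ∑ i, (ev a n (sh i (g' (n - 1) i)) - a i • ev a n (g' n i)) := by
      simp only [ev, Finset.smul_sum, ← Finset.sum_sub_distrib]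
      rw [Finset.sum_comm, ← Finset.sum_add_distrib]
      refine Finset.sum_congr rfl fun α hα => ?_
      simp only [res, if_pos (mem_D.mp hα), mem_D.mp hα, smul_add, Finset.smul_sum]
      exact congrArg _ (Finset.sum_congr rfl fun i _ => by rw [smul_sub, smul_comm (mon a α)])
    rw [h0, Finset.sum_sub_distrib, hg' n]
    cases n with
    | zero =>
      have : ∀ i (g : Idx r → R), ev a 0 (sh i g) = 0 := fun i g => Finset.sum_eq_zero fun α hα => by
        have h := mem_D.mp hα
        simp only [deg, Finset.sum_eq_zero_iff, Finset.mem_univ, true_implies] at h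
        simp [sh, h i]
      simp [this, v]
    | succ m =>
      simp only [Nat.add_sub_cancel, ev_sh, hg' m, v, Finset.sum_range_succ _ (m + 1)]
      abel
  choose G hG0 hG using fun n => hc n (res n) (fun α h => if_neg h) (hres n)
  let Gs : Fin r → Idx r → R := fun i α => ∑ n ∈ Finset.range (deg α + c + 1), G n i α
  refine ⟨Gs - fun i α => g' (deg α) i α, funext fun α => ?_⟩
  rw [sub_eq_add_neg, rel_add, rel_neg, Pi.add_apply, Pi.neg_apply]
  have hGs : rel a Gs α = y α + ∑ i, (sh i (g' (deg α - 1) i) α - a i • g' (deg α) i α) := by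
    have h1 : ∀ i β N, deg β + c + 1 ≤ N → (∑ n ∈ Finset.range N, G n i β) = Gs i β := fun i β N hN =>
      (Finset.sum_subset (Finset.range_subset_range.mpr hN) fun n _ hn =>
        hG0 n i β (by simp only [Finset.mem_range] at hn; omega)).symm
    have h2 : rel a Gs α = ∑ n ∈ Finset.range (deg α + c + 1), res n α := by
      simp only [← hG, rel]
      rw [Finset.sum_comm]
      refine Finset.sum_congr rfl fun i _ => ?_
      rw [Finset.sum_sub_distrib, ← Finset.smul_sum]
      congr 1
      simp only [sh]
      split_ifs with h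
      · simp
      · exact (h1 i _ _ (by have := deg_low h; omega)).symm
    rw [h2, Finset.sum_eq_single (deg α) (fun n _ hn => if_neg fun e => hn e.symm)
      (fun h => absurd (Finset.mem_range.mpr (by omega)) h)]
    exact if_pos rfl
  have hg'' : rel a (fun i β => g' (deg β) i β) α = ∑ i, (sh i (g' (deg α - 1) i) α - a i • g' (deg α) i α) := by
    refine Finset.sum_congr rfl fun i _ => ?_
    congr 1
    simp only [sh]
    split_ifs with h
    · rfl
    · have := deg_low h
      rw [show deg (low i α) = deg α - 1 by omega]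
  rw [hGs, hg'']
  abel

end Groth.Agent.Et18.DC.SK
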