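import Groth.Agent.Et18.DC.Apps
import Groth.Agent.Et18.DC.SeriesKer
import Groth.Agent.Et18.Mod.Linear

/-!
# The constant sheaf functor and convergent series in derived complete sheaves
-/

universe u

open CategoryTheory CategoryTheory.Limits AlgebraicGeometry Opposite

set_option backward.isDefEq.respectTransparency.types false
set_option backward.isDefEq.respectTransparency false
set_option synthInstance.maxHeartbeats 400000
set_option maxHeartbeats 1000000

namespace Groth.Agent.Et18.DC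

open ModEps

variable {Λ : Type (u + 1)} [CommRing Λ] {X : Scheme.{u}}

section Cst

/-- The constant sheaf functor of the pro-étale site. -/
noncomputable abbrev cstP : ModuleCat.{u + 1} Λ ⥤ EtModW.ModP Λ X :=
  constantSheaf (Scheme.ProEt.topology X) (ModuleCat.{u + 1} Λ)

/-- The terminal object. -/
noncomputable def isTerminalTopP : IsTerminal (ProEtS.topP X) :=
  MorphismProperty.Over.mkIdTerminal (P := @WeaklyEtale) (X := X)

/-- Constant sheaves are left adjoint to global sections. -/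
noncomputable def cstAdj : cstP (Λ := Λ) (X := X) ⊣ secP (ProEtS.topP X) :=
  constantSheafAdj (Scheme.ProEt.topology X) (ModuleCat.{u + 1} Λ) isTerminalTopP

instance cstP_preservesFiniteColimits : PreservesFiniteColimits (cstP (Λ := Λ) (X := X)) := by
  haveI : PreservesColimitsOfSize.{u + 1, u + 1} (cstP (Λ := Λ) (X := X)) :=
    (cstAdj (Λ := Λ) (X := X)).leftAdjoint_preservesColimits
  exact PreservesColimitsOfSize.preservesFiniteColimits _

instance cstP_preservesFiniteLimits : PreservesFiniteLimits (cstP (Λ := Λ) (X := X)) := by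
  haveI : PreservesFiniteLimits (Functor.const X.ProEtᵒᵖ : ModuleCat.{u + 1} Λ ⥤ _) :=
    preservesFiniteLimits_of_evaluation _ fun V => preservesFiniteLimits_of_natIso (Iso.refl (𝟭 (ModuleCat.{u + 1} Λ)))
  exact comp_preservesFiniteLimits _ _

instance cstP_linear : (cstP (Λ := Λ) (X := X)).Linear Λ where
  map_smul {F G} φ a := by
    apply ((cstAdj (Λ := Λ) (X := X)).homEquiv _ _).injective
    rw [Adjunction.homEquiv_unit, Adjunction.homEquiv_unit, secP_map_smul, Linear.comp_smul]
    refine Eq.trans ?_ (congrArg (fun t => a • t) ((cstAdj (Λ := Λ) (X := X)).unit.naturality φ))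
    refine ((cstAdj (Λ := Λ) (X := X)).unit.naturality (a • φ)).symm.trans ?_
    exact Linear.smul_comp _ _ _ a φ _

variable (Λ X) in
/-- The constant sheaf `Λ`. -/
noncomputable abbrev cΛ : EtModW.ModP Λ X := (cstP (Λ := Λ) (X := X)).obj (ModuleCat.of Λ Λ)

/-- Sections of the constant sheaf over weakly contractible objects satisfy the equational criterion. -/
theorem flatish_cst [IsNoetherianRing Λ] {U : X.ProEt} (hU : IsAWC U) :
    SK.Flatish Λ ((secP (Λ := Λ) U).obj (cΛ Λ X)) := by
  intro ι _ c e he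
  classical
  let M : ModuleCat.{u + 1} Λ := ModuleCat.of Λ (ι → Λ)
  let φ : M ⟶ ModuleCat.of Λ Λ := ModuleCat.ofHom (∑ b, c b • LinearMap.proj b)
  obtain ⟨N, g, hg⟩ := Submodule.fg_iff_exists_fin_generating_family.mp
    (IsNoetherian.noetherian (LinearMap.ker φ.hom))
  let p : ModuleCat.of Λ (Fin N → Λ) ⟶ M := ModuleCat.ofHom (Fintype.linearCombination Λ g)
  have hpφ : p ≫ φ = 0 := ModuleCat.hom_ext (LinearMap.ext fun v => by
    show φ.hom (Fintype.linearCombination Λ g v) = 0
    rw [Fintype.linearCombination_apply, map_sum]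
    exact Finset.sum_eq_zero fun l _ => by
      rw [map_smul, show φ.hom (g l) = 0 from LinearMap.mem_ker.mp (hg ▸ Submodule.subset_span ⟨l, rfl⟩), smul_zero])
  have hex : (ShortComplex.mk p φ hpφ).Exact := by
    rw [ShortComplex.moduleCat_exact_iff]
    intro x hx
    have : x ∈ Submodule.span Λ (Set.range g) := hg ▸ LinearMap.mem_ker.mpr hx
    obtain ⟨v, hv⟩ := (Submodule.mem_span_range_iff_exists_fun Λ).mp this
    exact ⟨v, (Fintype.linearCombination_apply Λ g v).trans hv⟩
  have hex' := (hex.map (cstP (Λ := Λ) (X := X)))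
  let sM : ι → (ModuleCat.of Λ Λ ⟶ M) := fun b => ModuleCat.ofHom (LinearMap.single Λ (fun _ => Λ) b)
  let s : ∀ {A B : ModuleCat.{u + 1} Λ}, (A ⟶ B) → ((secP U).obj (cstP.obj A) →ₗ[Λ] (secP U).obj (cstP.obj B)) :=
    fun k => ((secP U).map ((cstP (X := X)).map k)).hom
  have sc : ∀ {A B C : ModuleCat.{u + 1} Λ} (f : A ⟶ B) (g : B ⟶ C) (x : (secP U).obj (cstP.obj A)),
      s g (s f x) = s (f ≫ g) x := fun f g x => by
    simp only [s, Functor.map_comp]
    rfl
  have ssmul : ∀ (d : Λ) (x : (secP U).obj (cΛ Λ X)), s (d • 𝟙 (ModuleCat.of Λ Λ)) x = d • x := fun d x => by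
    simp only [s, Functor.map_smul, CategoryTheory.Functor.map_id]
    rfl
  have hsc : ∀ b, sM b ≫ φ = c b • 𝟙 (ModuleCat.of Λ Λ) := fun b => ModuleCat.hom_ext (LinearMap.ext_ring (by
    show (∑ b', c b' • LinearMap.proj b') (LinearMap.single Λ (fun _ => Λ) b 1) = c b • (1 : Λ)
    simp [LinearMap.sum_apply, Pi.single_apply]))
  obtain ⟨w, hw⟩ := exists_preimage_awc hex' hU (∑ b, s (sM b) (e b)) (by
    show s φ (∑ b, s (sM b) (e b)) = 0
    rw [map_sum]
    refine Eq.trans (Finset.sum_congr rfl fun b _ => ?_) he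
    rw [sc, hsc, ssmul])
  let pr : Fin N → (ModuleCat.of Λ (Fin N → Λ) ⟶ ModuleCat.of Λ Λ) := fun l => ModuleCat.ofHom (LinearMap.proj l)
  let sN : Fin N → (ModuleCat.of Λ Λ ⟶ ModuleCat.of Λ (Fin N → Λ)) := fun l =>
    ModuleCat.ofHom (LinearMap.single Λ (fun _ => Λ) l)
  refine ⟨N, g, fun l => s (pr l) w, fun l => ?_, fun b => ?_⟩
  · have := LinearMap.mem_ker.mp (hg ▸ Submodule.subset_span ⟨l, rfl⟩ : g l ∈ LinearMap.ker φ.hom)
    have h0 : ∑ x, c x * g l x = 0 := by
      refine Eq.trans ?_ this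
      simp [φ, LinearMap.sum_apply]
      rfl
    simpa [mul_comm] using h0
  · let prb : M ⟶ ModuleCat.of Λ Λ := ModuleCat.ofHom (LinearMap.proj b)
    have h1 : e b = s (p ≫ prb) w := by
      rw [← sc]
      refine Eq.trans ?_ (congrArg (s prb) hw.symm)
      rw [map_sum, Finset.sum_eq_single b (fun b' _ hb' => by
        rw [sc, show sM b' ≫ prb = (0 : Λ) • 𝟙 _ from ModuleCat.hom_ext (LinearMap.ext_ring (by
          show (Pi.single b' (1 : Λ) : ι → Λ) b = (0 : Λ) • (1 : Λ)
          simp [hb'.symm])), ssmul, zero_smul]) (fun h => absurd (Finset.mem_univ b) h)]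
      rw [sc, show sM b ≫ prb = (1 : Λ) • 𝟙 _ from ModuleCat.hom_ext (LinearMap.ext_ring (by
          show (Pi.single b (1 : Λ) : ι → Λ) b = (1 : Λ) • (1 : Λ)
          simp)), ssmul, one_smul]
    have h2 : p ≫ prb = ∑ l, pr l ≫ (g l b • 𝟙 (ModuleCat.of Λ Λ)) := ModuleCat.hom_ext (LinearMap.ext fun v => by
      show Fintype.linearCombination Λ g v b = _
      simp [Fintype.linearCombination_apply, ModuleCat.hom_sum, LinearMap.sum_apply, pr, mul_comm]
      exact (Finset.sum_apply b Finset.univ (fun l => v l • g l)).trans (Finset.sum_congr rfl fun l _ => mul_comm _ _))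
    rw [h1, h2]
    simp only [s, Functor.map_sum, ModuleCat.hom_sum, LinearMap.sum_apply]
    refine Finset.sum_congr rfl fun l _ => ?_
    exact (sc (pr l) (g l b • 𝟙 _) w).symm.trans (ssmul _ _)

end Cst

section Sum

variable (F : EtModW.ModP Λ X)

/-- The telescope on a countable product. -/
noncomputable def telF (f : Λ) : (∏ᶜ fun _ : ℕ => F) ⟶ ∏ᶜ fun _ : ℕ => F :=
  Pi.lift fun k => Pi.π (fun _ : ℕ => F) k - f • Pi.π (fun _ : ℕ => F) (k + 1)

/-- Elements of a product. -/
theorem exists_pi_elem {ι : Type} (G : ι → EtModW.ModP Λ X) (U : X.ProEt) (y : ∀ i, (secP (Λ := Λ) U).obj (G i)) :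
    ∃ x, ∀ i, ((secP U).map (Pi.π G i)).hom x = y i :=
  let h := isLimitOfPreserves (secP U) (productIsProduct G)
  ⟨(h.lift { pt := ModuleCat.of Λ Λ
             π := Discrete.natTrans fun ⟨i⟩ => ModuleCat.ofHom (LinearMap.toSpanSingleton Λ _ (y i)) }).hom 1,
    fun i => (LinearMap.congr_fun (congrArg ModuleCat.Hom.hom (h.fac _ ⟨i⟩)) 1).trans (one_smul Λ (y i))⟩

theorem pi_elem_ext {ι : Type} (G : ι → EtModW.ModP Λ X) (U : X.ProEt) {x y : (secP (Λ := Λ) U).obj (∏ᶜ G)}
    (h : ∀ i, ((secP U).map (Pi.π G i)).hom x = ((secP U).map (Pi.π G i)).hom y) : x = y :=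
  Concrete.isLimit_ext _ (isLimitOfPreserves (secP U) (productIsProduct G)) x y fun ⟨i⟩ => h i

theorem isIso_telF {f : Λ} (hF : ∀ U : X.ProEt, IsAWC U → TB f ((secP (Λ := Λ) U).obj F)) : IsIso (telF F f) := by
  refine isIso_of_awc _ fun U hU => ?_
  have hk : ∀ x k, ((secP U).map (Pi.π (fun _ : ℕ => F) k)).hom (((secP U).map (telF F f)).hom x) =
      tmap f _ (fun j => ((secP U).map (Pi.π (fun _ : ℕ => F) j)).hom x) k := fun x k => by
    rw [← secP_comp_apply, show telF F f ≫ Pi.π (fun _ : ℕ => F) k = Pi.π (fun _ : ℕ => F) k - f • Pi.π (fun _ : ℕ => F) (k + 1) from Pi.lift_π _ _, Functor.map_sub, secP_map_smul]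
    rfl
  refine ⟨fun x y h => pi_elem_ext _ U fun k => congrFun ((hF U hU).1 (funext fun j => ?_) :
    (fun j => ((secP U).map (Pi.π (fun _ : ℕ => F) j)).hom x) =
      fun j => ((secP U).map (Pi.π (fun _ : ℕ => F) j)).hom y) k, fun y => ?_⟩
  · rw [← hk, ← hk, h]
  · obtain ⟨x, hx⟩ := (hF U hU).2 fun j => ((secP U).map (Pi.π (fun _ : ℕ => F) j)).hom y
    obtain ⟨x', hx'⟩ := exists_pi_elem (fun _ : ℕ => F) U x
    exact ⟨x', pi_elem_ext _ U fun k => by rw [hk, show (fun j => _) = x from funext hx', hx]⟩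

variable {r : ℕ}

/-- The shift of series. -/
noncomputable def shP (i : Fin r) : (∏ᶜ fun _ : SK.Idx r => F) ⟶ ∏ᶜ fun _ : SK.Idx r => F :=
  Pi.lift fun α => if α i = 0 then 0 else Pi.π (fun _ : SK.Idx r => F) (SK.low i α)

/-- A series with constant term only. -/
noncomputable def deltaP {G : EtModW.ModP Λ X} (s : G ⟶ F) : G ⟶ ∏ᶜ fun _ : SK.Idx r => F :=
  Pi.lift fun α => if α = 0 then s else 0

/-- **Sums of series in a derived complete sheaf.** -/
theorem exists_sum_op : ∀ (r : ℕ) (a : Fin r → Λ),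
    (∀ i, ∀ U : X.ProEt, IsAWC U → TB (a i) ((secP (Λ := Λ) U).obj F)) →
    ∃ σ : (∏ᶜ fun _ : SK.Idx r => F) ⟶ F, (∀ i, shP F i ≫ σ = a i • σ) ∧
      ∀ (G : EtModW.ModP Λ X) (s : G ⟶ F), deltaP F s ≫ σ = s := by
  intro r
  induction r with
  | zero =>
    intro a _
    refine ⟨Pi.π (fun _ : SK.Idx 0 => F) 0, fun i => i.elim0, fun G s => ?_⟩
    rw [deltaP, Pi.lift_π, if_pos rfl]
  | succ r ih =>
    intro a ha
    obtain ⟨σ, hσ, hσ0⟩ := ih (fun i => a i.succ) fun i => ha i.succ
    haveI := isIso_telF F (ha 0)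
    let u := inv (telF F (a 0))
    let ρ : ℕ → ((∏ᶜ fun _ : SK.Idx (r + 1) => F) ⟶ F) := fun k =>
      Pi.lift (fun β : SK.Idx r => Pi.π (fun _ : SK.Idx (r + 1) => F) (Fin.cons k β)) ≫ σ
    let sh1 : (∏ᶜ fun _ : ℕ => F) ⟶ ∏ᶜ fun _ : ℕ => F :=
      Pi.lift fun k => if k = 0 then 0 else Pi.π (fun _ : ℕ => F) (k - 1)
    let S0 : (∏ᶜ fun _ : ℕ => F) ⟶ F := u ≫ Pi.π (fun _ : ℕ => F) 0
    have hsh1 : sh1 ≫ S0 = a 0 • S0 := by
      let x' : (∏ᶜ fun _ : ℕ => F) ⟶ ∏ᶜ fun _ : ℕ => F :=
        Pi.lift fun k => if k = 0 then a 0 • S0 else u ≫ Pi.π (fun _ : ℕ => F) (k - 1)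
      have hx : x' ≫ telF F (a 0) = sh1 := Pi.hom_ext _ _ fun k => by
        rw [Category.assoc, telF, Pi.lift_π, Preadditive.comp_sub, Linear.comp_smul, Pi.lift_π, Pi.lift_π, Pi.lift_π]
        cases k with
        | zero => simp [S0]
        | succ k =>
          simp only [Nat.add_one_ne_zero, if_false, Nat.add_sub_cancel]
          rw [← Linear.comp_smul, ← Preadditive.comp_sub]
          refine Eq.trans ?_ (IsIso.inv_hom_id_assoc (telF F (a 0)) (Pi.π (fun _ : ℕ => F) k))
          exact congrArg (fun t => u ≫ t)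
            (Pi.lift_π (fun k => Pi.π (fun _ : ℕ => F) k - a 0 • Pi.π (fun _ : ℕ => F) (k + 1)) k).symm
      rw [show sh1 ≫ S0 = x' ≫ Pi.π (fun _ : ℕ => F) 0 by
        rw [← hx]; simp [S0, u]]
      rw [Pi.lift_π, if_pos rfl]
    refine ⟨Pi.lift ρ ≫ S0, fun i => ?_, fun G s => ?_⟩
    · cases i using Fin.cases with
      | zero =>
        have : shP F (0 : Fin (r + 1)) ≫ Pi.lift ρ = Pi.lift ρ ≫ sh1 := Pi.hom_ext _ _ fun k => by
          rw [Category.assoc, Category.assoc, Pi.lift_π, Pi.lift_π]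
          cases k with
          | zero =>
            rw [if_pos rfl, comp_zero, ← Category.assoc]
            refine Eq.trans (congrArg (fun t => t ≫ σ) (?_ : _ = (0 : _ ⟶ ∏ᶜ fun _ : SK.Idx r => F))) zero_comp
            exact Pi.hom_ext _ _ fun β => by simp [shP]
          | succ k =>
            rw [if_neg (Nat.add_one_ne_zero k), Pi.lift_π, ← Category.assoc]
            refine congrArg (fun t => t ≫ σ) (Pi.hom_ext _ _ fun β => ?_)
            simp [shP, SK.low, Fin.update_cons_zero]
        rw [← Category.assoc, this, Category.assoc, hsh1, Linear.comp_smul]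
      | succ i =>
        have : shP F i.succ ≫ Pi.lift ρ = a i.succ • Pi.lift ρ := Pi.hom_ext _ _ fun k => by
          rw [Linear.smul_comp, Category.assoc, Pi.lift_π]
          show shP F i.succ ≫ Pi.lift _ ≫ σ = a i.succ • (Pi.lift _ ≫ σ)
          rw [← Linear.comp_smul, ← hσ i, ← Category.assoc, ← Category.assoc]
          refine congrArg (fun t => t ≫ σ) (Pi.hom_ext _ _ fun β => ?_)
          simp only [shP, Category.assoc, Pi.lift_π, Fin.cons_succ]
          split_ifs with h
          · simp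
          · rw [Pi.lift_π, show SK.low i.succ (Fin.cons k β) = Fin.cons k (SK.low i β) from by
              simp only [SK.low, Fin.cons_succ]; exact (Fin.cons_update _ _ _ _).symm]
        rw [← Category.assoc, this, Linear.smul_comp]
    · rw [← Category.assoc]
      have hd : deltaP F s ≫ Pi.lift ρ = Pi.lift fun k => if k = 0 then s else 0 := Pi.hom_ext _ _ fun k => by
        rw [Category.assoc, Pi.lift_π, Pi.lift_π]
        show deltaP F s ≫ Pi.lift _ ≫ σ = _
        rw [← Category.assoc]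
        split_ifs with hk
        · subst hk
          refine Eq.trans (congrArg (fun t => t ≫ σ) (?_ : _ = deltaP F s)) (hσ0 G s)
          refine Pi.hom_ext _ _ fun β => ?_
          simp only [deltaP, Category.assoc, Pi.lift_π]
          refine if_congr ⟨fun h => ?_, fun h => ?_⟩ rfl rfl
          · funext j
            simpa using congrFun h j.succ
          · subst h
            funext j
            refine Fin.cases ?_ (fun j => ?_) j <;> simp
        · refine Eq.trans (congrArg (fun t => t ≫ σ) (?_ : _ = (0 : _ ⟶ ∏ᶜ fun _ : SK.Idx r => F))) zero_comp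
          refine Pi.hom_ext _ _ fun β => ?_
          simp only [deltaP, Category.assoc, Pi.lift_π, zero_comp]
          exact if_neg fun h => hk (congrFun h 0)
      rw [hd]
      let x : G ⟶ ∏ᶜ fun _ : ℕ => F := Pi.lift fun k => if k = 0 then s else 0
      have hx : x ≫ telF F (a 0) = x := Pi.hom_ext _ _ fun k => by
        rw [Category.assoc, telF, Pi.lift_π, Preadditive.comp_sub, Linear.comp_smul, Pi.lift_π, Pi.lift_π]
        simp
      show x ≫ u ≫ Pi.π (fun _ : ℕ => F) 0 = s
      conv_lhs => rw [← hx]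
      simp [x, u]

end Sum

end Groth.Agent.Et18.DC
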